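import Cfsg.Agent.H15.QJ1
import Cfsg.Agent.H15.QS.YHS

/-! Generated by tools/h15/qj/qj.py (kit tools/h0/tr). -/

set_option maxRecDepth 100000
set_option maxHeartbeats 0

namespace H15.QJ.YHS
open H16 H0.TR
open H5.QJ H15.QS
open scoped commutatorElement Pointwise


noncomputable def v_W : List (List ℕ) := [[nat_lit 1, nat_lit 0, nat_lit 1, nat_lit 3, nat_lit 1, nat_lit 4, nat_lit 2, nat_lit 0, nat_lit 1, nat_lit 2, nat_lit 5, nat_lit 2, nat_lit 4, nat_lit 0],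
  [nat_lit 2, nat_lit 3, nat_lit 0, nat_lit 4, nat_lit 2, nat_lit 0, nat_lit 1, nat_lit 2, nat_lit 3, nat_lit 5, nat_lit 4, nat_lit 2]]
noncomputable def v_P : ℕ → ℕ → ℕ := wdsP H15.QS.YHS.P v_W
noncomputable def vcth_W : List (List ℕ) := [[nat_lit 3, nat_lit 0, nat_lit 1, nat_lit 3, nat_lit 1, nat_lit 0, nat_lit 2, nat_lit 4, nat_lit 2, nat_lit 5, nat_lit 2, nat_lit 1, nat_lit 4, nat_lit 2, nat_lit 1, nat_lit 5, nat_lit 6],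
  [nat_lit 2, nat_lit 3, nat_lit 2, nat_lit 1, nat_lit 0, nat_lit 2, nat_lit 1, nat_lit 3, nat_lit 0, nat_lit 1, nat_lit 5, nat_lit 2, nat_lit 4, nat_lit 1, nat_lit 2, nat_lit 3, nat_lit 6],
  [nat_lit 0, nat_lit 2, nat_lit 1, nat_lit 3, nat_lit 0, nat_lit 1, nat_lit 0, nat_lit 2, nat_lit 5, nat_lit 2, nat_lit 3, nat_lit 1, nat_lit 4, nat_lit 1, nat_lit 5, nat_lit 2, nat_lit 6],
  [nat_lit 2, nat_lit 0, nat_lit 1, nat_lit 0, nat_lit 3, nat_lit 4, nat_lit 2, nat_lit 1, nat_lit 4, nat_lit 5, nat_lit 2, nat_lit 3, nat_lit 1, nat_lit 4, nat_lit 2, nat_lit 5, nat_lit 3, nat_lit 1],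
  [nat_lit 0, nat_lit 2, nat_lit 0, nat_lit 1, nat_lit 0, nat_lit 1, nat_lit 2, nat_lit 1, nat_lit 3, nat_lit 1, nat_lit 4, nat_lit 5, nat_lit 2, nat_lit 4, nat_lit 1, nat_lit 6],
  [nat_lit 5, nat_lit 1, nat_lit 3, nat_lit 0, nat_lit 2, nat_lit 1, nat_lit 3, nat_lit 0, nat_lit 4, nat_lit 2, nat_lit 0, nat_lit 3, nat_lit 1, nat_lit 5, nat_lit 2, nat_lit 4, nat_lit 1, nat_lit 2, nat_lit 6],
  [nat_lit 1, nat_lit 0, nat_lit 3, nat_lit 0, nat_lit 2, nat_lit 1, nat_lit 0, nat_lit 5, nat_lit 2, nat_lit 1, nat_lit 0, nat_lit 5, nat_lit 2, nat_lit 3],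
  [nat_lit 0],
  [nat_lit 1],
  [nat_lit 4],
  [nat_lit 0, nat_lit 1, nat_lit 2, nat_lit 0, nat_lit 1, nat_lit 2, nat_lit 3, nat_lit 1, nat_lit 0, nat_lit 4, nat_lit 2, nat_lit 1, nat_lit 5, nat_lit 2, nat_lit 1],
  [nat_lit 2],
  [nat_lit 3],
  [nat_lit 5],
  [nat_lit 6],
  [nat_lit 0, nat_lit 3, nat_lit 5, nat_lit 0, nat_lit 1, nat_lit 0, nat_lit 1, nat_lit 2, nat_lit 1, nat_lit 0, nat_lit 4, nat_lit 2, nat_lit 1, nat_lit 4, nat_lit 1, nat_lit 5, nat_lit 2, nat_lit 3, nat_lit 0, nat_lit 4]]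
noncomputable def vcth_P : ℕ → ℕ → ℕ := wdsP H15.QS.YHS.P vcth_W
noncomputable def vctl0Dd : ℕ := nat_lit 0xb6f421d4b0d1e8b74723291469f5373475f2be14da7b3fcc1d549be5aeaa022ab74529dd1416d29a4f9239d927a4b40aa073d05aca582a3304ec9598823a108b411c21a04c1b10b1bc464670be19a238840cc0fc41c5609c0fa1784d85d1922e43d85c1ae3204c8b715025c3c0590ce1601701e03a124240470700dc1401904e0600b80e01a03005800
noncomputable def vctl0D (u : ℕ) : ℕ := Nat.land (Nat.shiftRight vctl0Dd (Nat.mul u (nat_lit 11))) (nat_lit 2047)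
noncomputable def vctl0Pd : ℕ := nat_lit 0x14c9eb35e7e1ce120024c24b8c493d2c74754356cf2edd8d4acf9ca6a56f1d9c49d2222a94ddc18055bf6d7a0c88c08453a22da3038e2c3aaea21506b84c87587485abe810c59af09a334442cabb807c4530033baa58a03
noncomputable def vctl0P (u : ℕ) : ℕ := Nat.land (Nat.shiftRight vctl0Pd (Nat.mul u (nat_lit 7))) (nat_lit 127)
noncomputable def vctl0Qd : ℕ := nat_lit 0x82fcf0a2ec85b88462025471c1c8590d5a099709d8a432a30a0bca08ba85886691b09208922a694ccfa9c18a4a8bf5a69b6b3c3a27d11d3d20f0a96bd4cd27723ced59609d81235c7191346737558edad38146d900b9b5a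
noncomputable def vctl0Q (u : ℕ) : ℕ := Nat.land (Nat.shiftRight vctl0Qd (Nat.mul u (nat_lit 7))) (nat_lit 127)
noncomputable def vctl0 : H16.Lev := ⟨100, 16, vctl0D, vctl0P, vctl0Q⟩
noncomputable def vctl1Dd : ℕ := nat_lit 0x1b16b57cb78df314dc3046622a6f7e1e0624585a15e4c95147052440f03e904394ee39036368d9360ce0bcc32e0c22b49814c482dca125c7725876200371d42c06c610ac101805f0640e094230682707021034110580a0a41f050130240801c00
noncomputable def vctl1D (u : ℕ) : ℕ := Nat.land (Nat.shiftRight vctl1Dd (Nat.mul u (nat_lit 10))) (nat_lit 1023)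
noncomputable def vctl1Pd : ℕ := nat_lit 0x4e029295e66e03d3693dda8c28d68b625c6d15876e96890a00595348df26aed0fa864d15c4417a21c0853a54f8fc55355e146b8105cc68533912200065c620c98d0cf12
noncomputable def vctl1P (u : ℕ) : ℕ := Nat.land (Nat.shiftRight vctl1Pd (Nat.mul u (nat_lit 7))) (nat_lit 127)
noncomputable def vctl1Qd : ℕ := nat_lit 0x1e8df925921a9000a40000000b278925c00853170000bc200000cc3304c82b10068015827064600009c38e01d80421deb7546cbc0003404a7c807113205b00009530674d121456016a2507dc80787458a8a21800007a589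
noncomputable def vctl1Q (u : ℕ) : ℕ := Nat.land (Nat.shiftRight vctl1Qd (Nat.mul u (nat_lit 7))) (nat_lit 127)
noncomputable def vctl1 : H16.Lev := ⟨77, 11, vctl1D, vctl1P, vctl1Q⟩
noncomputable def vctl2Dd : ℕ := nat_lit 0x8cc10933e6511b283050d101c300
noncomputable def vctl2D (u : ℕ) : ℕ := Nat.land (Nat.shiftRight vctl2Dd (Nat.mul u (nat_lit 7))) (nat_lit 127)
noncomputable def vctl2Pd : ℕ := nat_lit 0x5716fce9a2d14277500a82cb6eb3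
noncomputable def vctl2P (u : ℕ) : ℕ := Nat.land (Nat.shiftRight vctl2Pd (Nat.mul u (nat_lit 7))) (nat_lit 127)
noncomputable def vctl2Qd : ℕ := nat_lit 0xd0100000000600000cb0000000e0080000007000000000000020f0040000090000000000030000000000a00000000050
noncomputable def vctl2Q (u : ℕ) : ℕ := Nat.land (Nat.shiftRight vctl2Qd (Nat.mul u (nat_lit 4))) (nat_lit 15)
noncomputable def vctl2 : H16.Lev := ⟨16, 7, vctl2D, vctl2P, vctl2Q⟩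
noncomputable def vctl3Dd : ℕ := nat_lit 0xac7b827c8479675b514d352f4c3f494640292d3a233d1d2e172b221c241614110f100b0e0d0c0a080706050400
noncomputable def vctl3D (u : ℕ) : ℕ := Nat.land (Nat.shiftRight vctl3Dd (Nat.mul u (nat_lit 8))) (nat_lit 255)
noncomputable def vctl3Pd : ℕ := nat_lit 0x18c6b88c01148fbe290c3cf1c08049789961d0d2af2a1a91c615e551970ad69da26c4cd134a5a44
noncomputable def vctl3P (u : ℕ) : ℕ := Nat.land (Nat.shiftRight vctl3Pd (Nat.mul u (nat_lit 7))) (nat_lit 127)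
noncomputable def vctl3Qd : ℕ := nat_lit 0xac040001500000800000000026610080000001670000000088002802401b0000110002810001803ea01901408001a01234000094060000316c3003a31c0a4001f4c00000278572c001e01d
noncomputable def vctl3Q (u : ℕ) : ℕ := Nat.land (Nat.shiftRight vctl3Qd (Nat.mul u (nat_lit 6))) (nat_lit 63)
noncomputable def vctl3 : H16.Lev := ⟨45, 6, vctl3D, vctl3P, vctl3Q⟩
noncomputable def vctl4Dd : ℕ := nat_lit 0x9320
noncomputable def vctl4D (u : ℕ) : ℕ := Nat.land (Nat.shiftRight vctl4Dd (Nat.mul u (nat_lit 4))) (nat_lit 15)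
noncomputable def vctl4Pd : ℕ := nat_lit 0x10ab1ae
noncomputable def vctl4P (u : ℕ) : ℕ := Nat.land (Nat.shiftRight vctl4Pd (Nat.mul u (nat_lit 7))) (nat_lit 127)
noncomputable def vctl4Qd : ℕ := nat_lit 0x40000000000000000000000000002000000000000000030000
noncomputable def vctl4Q (u : ℕ) : ℕ := Nat.land (Nat.shiftRight vctl4Qd (Nat.mul u (nat_lit 2))) (nat_lit 3)
noncomputable def vctl4 : H16.Lev := ⟨4, 4, vctl4D, vctl4P, vctl4Q⟩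
noncomputable def vctl5Dd : ℕ := nat_lit 2
noncomputable def vctl5D (u : ℕ) : ℕ := Nat.land (Nat.shiftRight vctl5Dd (Nat.mul u (nat_lit 1))) (nat_lit 1)
noncomputable def vctl5Pd : ℕ := nat_lit 0x25c8
noncomputable def vctl5P (u : ℕ) : ℕ := Nat.land (Nat.shiftRight vctl5Pd (Nat.mul u (nat_lit 7))) (nat_lit 127)
noncomputable def vctl5Qd : ℕ := nat_lit 0x8000000000000000000
noncomputable def vctl5Q (u : ℕ) : ℕ := Nat.land (Nat.shiftRight vctl5Qd (Nat.mul u (nat_lit 1))) (nat_lit 1)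
noncomputable def vctl5 : H16.Lev := ⟨2, 2, vctl5D, vctl5P, vctl5Q⟩
noncomputable def vctl6Dd : ℕ := nat_lit 0
noncomputable def vctl6D (u : ℕ) : ℕ := Nat.land (Nat.shiftRight vctl6Dd (Nat.mul u (nat_lit 1))) (nat_lit 1)
noncomputable def vctl6Pd : ℕ := nat_lit 0x29b5
noncomputable def vctl6P (u : ℕ) : ℕ := Nat.land (Nat.shiftRight vctl6Pd (Nat.mul u (nat_lit 7))) (nat_lit 127)
noncomputable def vctl6Qd : ℕ := nat_lit 0x800000000000000000000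
noncomputable def vctl6Q (u : ℕ) : ℕ := Nat.land (Nat.shiftRight vctl6Qd (Nat.mul u (nat_lit 1))) (nat_lit 1)
noncomputable def vctl6 : H16.Lev := ⟨2, 1, vctl6D, vctl6P, vctl6Q⟩
noncomputable def vce_W : List (List ℕ) := [[nat_lit 5, nat_lit 4, nat_lit 0, nat_lit 1, nat_lit 2, nat_lit 0, nat_lit 1, nat_lit 0, nat_lit 2, nat_lit 0, nat_lit 1, nat_lit 3, nat_lit 0, nat_lit 1, nat_lit 2, nat_lit 0, nat_lit 5, nat_lit 2, nat_lit 3, nat_lit 4, nat_lit 1, nat_lit 3, nat_lit 0]]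
noncomputable def vce_P : ℕ → ℕ → ℕ := wdsP H15.QS.YHS.P vce_W
noncomputable def vcc0Dd : ℕ := nat_lit 0
noncomputable def vcc0D (u : ℕ) : ℕ := Nat.land (Nat.shiftRight vcc0Dd (Nat.mul u (nat_lit 1))) (nat_lit 1)
noncomputable def vcc0Pd : ℕ := nat_lit 0x83
noncomputable def vcc0P (u : ℕ) : ℕ := Nat.land (Nat.shiftRight vcc0Pd (Nat.mul u (nat_lit 4))) (nat_lit 15)
noncomputable def vcc0Qd : ℕ := nat_lit 0x100
noncomputable def vcc0Q (u : ℕ) : ℕ := Nat.land (Nat.shiftRight vcc0Qd (Nat.mul u (nat_lit 1))) (nat_lit 1)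
noncomputable def vcc0 : H16.Lev := ⟨2, 1, vcc0D, vcc0P, vcc0Q⟩
noncomputable def vctn0Fd : ℕ := nat_lit 0x6a6a6aaa9a5a999a96955956955259a5595556996655555554
noncomputable def vctn0F (u : ℕ) : ℕ := Nat.land (Nat.shiftRight vctn0Fd (Nat.mul u (nat_lit 2))) (nat_lit 3)
noncomputable def vctn0 : Nd := ⟨vctn0F, (nat_lit 2), (nat_lit 1), [[nat_lit 0]], [((nat_lit 0), []), ((nat_lit 0), [nat_lit 1]), ((nat_lit 0), [nat_lit 1, nat_lit 0]), ((nat_lit 0), [nat_lit 1, nat_lit 1]), ((nat_lit 0), [nat_lit 1, nat_lit 0, nat_lit 1])], []⟩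
noncomputable def e_W : List (List ℕ) := [[nat_lit 2, nat_lit 1, nat_lit 0, nat_lit 2, nat_lit 1, nat_lit 0, nat_lit 1, nat_lit 3, nat_lit 1, nat_lit 0, nat_lit 1, nat_lit 2, nat_lit 5, nat_lit 0, nat_lit 1],
  [nat_lit 2, nat_lit 0, nat_lit 3, nat_lit 0, nat_lit 1, nat_lit 0, nat_lit 2, nat_lit 4, nat_lit 5, nat_lit 2, nat_lit 4, nat_lit 1, nat_lit 2, nat_lit 3]]
noncomputable def e_P : ℕ → ℕ → ℕ := wdsP H15.QS.YHS.P e_W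
noncomputable def z1x_W : List (List ℕ) := [[nat_lit 4, nat_lit 2, nat_lit 1, nat_lit 2, nat_lit 0, nat_lit 1, nat_lit 0, nat_lit 2, nat_lit 0, nat_lit 1, nat_lit 3, nat_lit 0, nat_lit 1, nat_lit 0, nat_lit 2, nat_lit 0, nat_lit 1, nat_lit 3, nat_lit 4, nat_lit 2, nat_lit 5, nat_lit 2, nat_lit 3, nat_lit 1, nat_lit 4, nat_lit 2, nat_lit 5, nat_lit 3],
  [nat_lit 5, nat_lit 3, nat_lit 1, nat_lit 0, nat_lit 2, nat_lit 0, nat_lit 3, nat_lit 0, nat_lit 1, nat_lit 0, nat_lit 5],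
  [nat_lit 2, nat_lit 0, nat_lit 3, nat_lit 0, nat_lit 1, nat_lit 2, nat_lit 4, nat_lit 2, nat_lit 0, nat_lit 3, nat_lit 1, nat_lit 2, nat_lit 4]]
noncomputable def z1x_P : ℕ → ℕ → ℕ := wdsP H15.QS.YHS.P z1x_W
noncomputable def z1cth_W : List (List ℕ) := [[nat_lit 5, nat_lit 3, nat_lit 1, nat_lit 0, nat_lit 2, nat_lit 0, nat_lit 1, nat_lit 0, nat_lit 1, nat_lit 2, nat_lit 0, nat_lit 1, nat_lit 4, nat_lit 2, nat_lit 0, nat_lit 3, nat_lit 1, nat_lit 2, nat_lit 0, nat_lit 1, nat_lit 5, nat_lit 2, nat_lit 3, nat_lit 1, nat_lit 4, nat_lit 2, nat_lit 6],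
  [nat_lit 1, nat_lit 2, nat_lit 0, nat_lit 1, nat_lit 2, nat_lit 0, nat_lit 3, nat_lit 0, nat_lit 2, nat_lit 1, nat_lit 0, nat_lit 2, nat_lit 4, nat_lit 2, nat_lit 5, nat_lit 2, nat_lit 1, nat_lit 4, nat_lit 1, nat_lit 5, nat_lit 6],
  [nat_lit 0, nat_lit 1, nat_lit 0, nat_lit 3, nat_lit 0, nat_lit 2, nat_lit 1, nat_lit 0, nat_lit 1, nat_lit 2, nat_lit 4, nat_lit 2, nat_lit 0, nat_lit 3, nat_lit 5, nat_lit 2, nat_lit 4, nat_lit 1, nat_lit 2, nat_lit 0, nat_lit 3, nat_lit 6],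
  [nat_lit 1, nat_lit 2, nat_lit 3, nat_lit 1, nat_lit 4, nat_lit 2, nat_lit 5, nat_lit 2, nat_lit 3, nat_lit 4, nat_lit 1, nat_lit 2, nat_lit 3],
  [nat_lit 2, nat_lit 0, nat_lit 1, nat_lit 2, nat_lit 0, nat_lit 1, nat_lit 3, nat_lit 0, nat_lit 2, nat_lit 4, nat_lit 5, nat_lit 2, nat_lit 3, nat_lit 4, nat_lit 6],
  [nat_lit 2, nat_lit 0, nat_lit 1, nat_lit 0, nat_lit 2, nat_lit 3, nat_lit 0, nat_lit 2, nat_lit 1, nat_lit 4, nat_lit 2, nat_lit 1, nat_lit 4, nat_lit 5, nat_lit 2, nat_lit 3, nat_lit 4, nat_lit 1, nat_lit 4, nat_lit 6],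
  [nat_lit 2, nat_lit 1, nat_lit 0, nat_lit 1, nat_lit 2, nat_lit 0, nat_lit 1, nat_lit 2, nat_lit 3, nat_lit 1, nat_lit 2, nat_lit 0, nat_lit 5, nat_lit 2, nat_lit 1, nat_lit 4, nat_lit 1],
  [nat_lit 0, nat_lit 5, nat_lit 0, nat_lit 2, nat_lit 0, nat_lit 1, nat_lit 0, nat_lit 2, nat_lit 1, nat_lit 0, nat_lit 3, nat_lit 5, nat_lit 2, nat_lit 4, nat_lit 1, nat_lit 3, nat_lit 4],
  [nat_lit 1, nat_lit 0, nat_lit 1, nat_lit 2, nat_lit 0, nat_lit 1, nat_lit 0, nat_lit 2, nat_lit 3, nat_lit 1, nat_lit 0, nat_lit 1, nat_lit 4, nat_lit 2, nat_lit 5, nat_lit 2, nat_lit 1],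
  [nat_lit 2],
  [nat_lit 1, nat_lit 0, nat_lit 5, nat_lit 1, nat_lit 2, nat_lit 1, nat_lit 3, nat_lit 4, nat_lit 2, nat_lit 0, nat_lit 3, nat_lit 5, nat_lit 2, nat_lit 3, nat_lit 1, nat_lit 4, nat_lit 0],
  [nat_lit 0],
  [nat_lit 1],
  [nat_lit 3],
  [nat_lit 4],
  [nat_lit 5],
  [nat_lit 6],
  [nat_lit 0, nat_lit 2, nat_lit 0, nat_lit 1, nat_lit 0, nat_lit 3, nat_lit 0, nat_lit 1, nat_lit 0, nat_lit 2, nat_lit 1, nat_lit 0, nat_lit 4, nat_lit 2, nat_lit 5, nat_lit 2, nat_lit 1, nat_lit 4, nat_lit 2, nat_lit 4]]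
noncomputable def z1cth_P : ℕ → ℕ → ℕ := wdsP H15.QS.YHS.P z1cth_W
noncomputable def z1ctl0Dd : ℕ := nat_lit 0x2fe3ae4e85a6faa9cc786e54c51c2e2a5246b6436aa34341413f9e438096d0c19c4728a0f99e235a5e0b32163e4594980130547c47407044a734d512d1f0774dc90932a4206988e2be5349d8d211a1bc0b0ad1e622c258bd1360e4138150d41e83c85708c1e0338450ee0cc110650a80c81087504018c2081f0a20bc0f02d0360400780e01a03005800
noncomputable def z1ctl0D (u : ℕ) : ℕ := Nat.land (Nat.shiftRight z1ctl0Dd (Nat.mul u (nat_lit 11))) (nat_lit 2047)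
noncomputable def z1ctl0Pd : ℕ := nat_lit 0x9d789049724e434cb9b9f009713e72a503d12c8457ba380aa194a3ad214cf5c1aae341053ccb67131fd8a97e43b1685d33ab2b0cd305978f4f8c511b45d1562ac68b0276d1d95874d358981a05490a01b06a28450ef0a06
noncomputable def z1ctl0P (u : ℕ) : ℕ := Nat.land (Nat.shiftRight z1ctl0Pd (Nat.mul u (nat_lit 7))) (nat_lit 127)
noncomputable def z1ctl0Qd : ℕ := nat_lit 0x455548e658a5c02c7ca3498715b38518c85758d436beaaf318af420fb829e096b5280260b69b7b2e080d5938d184b6a2137d22906476eb0b2a75751b10495d1045ca73c98d812f850434929fc75e867cd06006600eee4d7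
noncomputable def z1ctl0Q (u : ℕ) : ℕ := Nat.land (Nat.shiftRight z1ctl0Qd (Nat.mul u (nat_lit 7))) (nat_lit 127)
noncomputable def z1ctl0 : H16.Lev := ⟨100, 18, z1ctl0D, z1ctl0P, z1ctl0Q⟩
noncomputable def z1ctl1Dd : ℕ := nat_lit 0x26b442ea2956e321213d4b82a8b76d8ab2818a1948c188764c85713c5211075444950e5061d055128541782114c381203e0c4da0b4330989221c181c4660882805c271141d070a30688d1dc611000b0a8150341007c13030120440f0280e02400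
noncomputable def z1ctl1D (u : ℕ) : ℕ := Nat.land (Nat.shiftRight z1ctl1Dd (Nat.mul u (nat_lit 10))) (nat_lit 1023)
noncomputable def z1ctl1Pd : ℕ := nat_lit 0x3f60b26d63e9675a177e405504c532c6bb0598b0cb1e101c0277875f355edd9a4471075e94b5ea13648681a12e0844041cd2c544ba9754d5d83009d99b8d0d611844a03
noncomputable def z1ctl1P (u : ℕ) : ℕ := Nat.land (Nat.shiftRight z1ctl1Pd (Nat.mul u (nat_lit 7))) (nat_lit 127)
noncomputable def z1ctl1Qd : ℕ := nat_lit 0x764c23984900070111c0c01200001c5091b0116480348c0410001ba66c00c8098b50af123ca80540160652f004b56e914a1a0083f60023284e010178ed17003e1440b22d40017c781160094e8386f403364020180028e31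
noncomputable def z1ctl1Q (u : ℕ) : ℕ := Nat.land (Nat.shiftRight z1ctl1Qd (Nat.mul u (nat_lit 7))) (nat_lit 127)
noncomputable def z1ctl1 : H16.Lev := ⟨77, 11, z1ctl1D, z1ctl1P, z1ctl1Q⟩
noncomputable def z1ctl2Dd : ℕ := nat_lit 0x93b82d6e75aaed64a19f26246c14423592ae2d214fa7c39964c2501f15c6e3d0d9785c431a1e052330e880ba2b1187084210f8242e0b0984414180803c1a15060200e00
noncomputable def z1ctl2D (u : ℕ) : ℕ := Nat.land (Nat.shiftRight z1ctl2Dd (Nat.mul u (nat_lit 9))) (nat_lit 511)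
noncomputable def z1ctl2Pd : ℕ := nat_lit 0x202d74e9b4afe05988a0e1ab6523c311d1d2620b013cd5d91734c1002ed2f24b8a0f855261e19b46904156cc92115461e38a1d7be
noncomputable def z1ctl2P (u : ℕ) : ℕ := Nat.land (Nat.shiftRight z1ctl2Pd (Nat.mul u (nat_lit 7))) (nat_lit 127)
noncomputable def z1ctl2Qd : ℕ := nat_lit 0x132af4d5901700f0000000007b6180038dc002d0000000ea1403000000118697c000089a280000079bb32c04d6000018b0020d563a0000e4126e50319c983b030bc0e8702608050001d91c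
noncomputable def z1ctl2Q (u : ℕ) : ℕ := Nat.land (Nat.shiftRight z1ctl2Qd (Nat.mul u (nat_lit 6))) (nat_lit 63)
noncomputable def z1ctl2 : H16.Lev := ⟨60, 9, z1ctl2D, z1ctl2P, z1ctl2Q⟩
noncomputable def z1ctl3Dd : ℕ := nat_lit 0xc60
noncomputable def z1ctl3D (u : ℕ) : ℕ := Nat.land (Nat.shiftRight z1ctl3Dd (Nat.mul u (nat_lit 4))) (nat_lit 15)
noncomputable def z1ctl3Pd : ℕ := nat_lit 0x110997
noncomputable def z1ctl3P (u : ℕ) : ℕ := Nat.land (Nat.shiftRight z1ctl3Pd (Nat.mul u (nat_lit 7))) (nat_lit 127)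
noncomputable def z1ctl3Qd : ℕ := nat_lit 0x20000000000000000000000004000000000
noncomputable def z1ctl3Q (u : ℕ) : ℕ := Nat.land (Nat.shiftRight z1ctl3Qd (Nat.mul u (nat_lit 2))) (nat_lit 3)
noncomputable def z1ctl3 : H16.Lev := ⟨3, 7, z1ctl3D, z1ctl3P, z1ctl3Q⟩
noncomputable def z1ctl4Dd : ℕ := nat_lit 0x28
noncomputable def z1ctl4D (u : ℕ) : ℕ := Nat.land (Nat.shiftRight z1ctl4Dd (Nat.mul u (nat_lit 3))) (nat_lit 7)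
noncomputable def z1ctl4Pd : ℕ := nat_lit 0x9c4
noncomputable def z1ctl4P (u : ℕ) : ℕ := Nat.land (Nat.shiftRight z1ctl4Pd (Nat.mul u (nat_lit 7))) (nat_lit 127)
noncomputable def z1ctl4Qd : ℕ := nat_lit 0x80000
noncomputable def z1ctl4Q (u : ℕ) : ℕ := Nat.land (Nat.shiftRight z1ctl4Qd (Nat.mul u (nat_lit 1))) (nat_lit 1)
noncomputable def z1ctl4 : H16.Lev := ⟨2, 6, z1ctl4D, z1ctl4P, z1ctl4Q⟩
noncomputable def z1ctl5Dd : ℕ := nat_lit 0x9430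
noncomputable def z1ctl5D (u : ℕ) : ℕ := Nat.land (Nat.shiftRight z1ctl5Dd (Nat.mul u (nat_lit 4))) (nat_lit 15)
noncomputable def z1ctl5Pd : ℕ := nat_lit 0x117cf2c
noncomputable def z1ctl5P (u : ℕ) : ℕ := Nat.land (Nat.shiftRight z1ctl5Pd (Nat.mul u (nat_lit 7))) (nat_lit 127)
noncomputable def z1ctl5Qd : ℕ := nat_lit 0x800000000000000000000000000000001000000000030000
noncomputable def z1ctl5Q (u : ℕ) : ℕ := Nat.land (Nat.shiftRight z1ctl5Qd (Nat.mul u (nat_lit 2))) (nat_lit 3)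
noncomputable def z1ctl5 : H16.Lev := ⟨4, 5, z1ctl5D, z1ctl5P, z1ctl5Q⟩
noncomputable def z1ctl6Dd : ℕ := nat_lit 8
noncomputable def z1ctl6D (u : ℕ) : ℕ := Nat.land (Nat.shiftRight z1ctl6Dd (Nat.mul u (nat_lit 2))) (nat_lit 3)
noncomputable def z1ctl6Pd : ℕ := nat_lit 0x12cb
noncomputable def z1ctl6P (u : ℕ) : ℕ := Nat.land (Nat.shiftRight z1ctl6Pd (Nat.mul u (nat_lit 7))) (nat_lit 127)
noncomputable def z1ctl6Qd : ℕ := nat_lit 0x2000000000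
noncomputable def z1ctl6Q (u : ℕ) : ℕ := Nat.land (Nat.shiftRight z1ctl6Qd (Nat.mul u (nat_lit 1))) (nat_lit 1)
noncomputable def z1ctl6 : H16.Lev := ⟨2, 3, z1ctl6D, z1ctl6P, z1ctl6Q⟩
noncomputable def z1ctl7Dd : ℕ := nat_lit 2
noncomputable def z1ctl7D (u : ℕ) : ℕ := Nat.land (Nat.shiftRight z1ctl7Dd (Nat.mul u (nat_lit 1))) (nat_lit 1)
noncomputable def z1ctl7Pd : ℕ := nat_lit 0x2f34
noncomputable def z1ctl7P (u : ℕ) : ℕ := Nat.land (Nat.shiftRight z1ctl7Pd (Nat.mul u (nat_lit 7))) (nat_lit 127)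
noncomputable def z1ctl7Qd : ℕ := nat_lit 0x400000000000000000000000
noncomputable def z1ctl7Q (u : ℕ) : ℕ := Nat.land (Nat.shiftRight z1ctl7Qd (Nat.mul u (nat_lit 1))) (nat_lit 1)
noncomputable def z1ctl7 : H16.Lev := ⟨2, 2, z1ctl7D, z1ctl7P, z1ctl7Q⟩
noncomputable def z1ctl8Dd : ℕ := nat_lit 0
noncomputable def z1ctl8D (u : ℕ) : ℕ := Nat.land (Nat.shiftRight z1ctl8Dd (Nat.mul u (nat_lit 1))) (nat_lit 1)
noncomputable def z1ctl8Pd : ℕ := nat_lit 0x2804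
noncomputable def z1ctl8P (u : ℕ) : ℕ := Nat.land (Nat.shiftRight z1ctl8Pd (Nat.mul u (nat_lit 7))) (nat_lit 127)
noncomputable def z1ctl8Qd : ℕ := nat_lit 0x100000000000000000000
noncomputable def z1ctl8Q (u : ℕ) : ℕ := Nat.land (Nat.shiftRight z1ctl8Qd (Nat.mul u (nat_lit 1))) (nat_lit 1)
noncomputable def z1ctl8 : H16.Lev := ⟨2, 1, z1ctl8D, z1ctl8P, z1ctl8Q⟩
noncomputable def z1ce_W : List (List ℕ) := [[nat_lit 2, nat_lit 3, nat_lit 1, nat_lit 0, nat_lit 2, nat_lit 0, nat_lit 1, nat_lit 0, nat_lit 3, nat_lit 4, nat_lit 2, nat_lit 0, nat_lit 3, nat_lit 1, nat_lit 2, nat_lit 0, nat_lit 1, nat_lit 5, nat_lit 2, nat_lit 3, nat_lit 1, nat_lit 4, nat_lit 1, nat_lit 5, nat_lit 2, nat_lit 0, nat_lit 3, nat_lit 6],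
  [nat_lit 5, nat_lit 0, nat_lit 2, nat_lit 0, nat_lit 4, nat_lit 2, nat_lit 0, nat_lit 1, nat_lit 5, nat_lit 2, nat_lit 3, nat_lit 1, nat_lit 4, nat_lit 2, nat_lit 5, nat_lit 1, nat_lit 6]]
noncomputable def z1ce_P : ℕ → ℕ → ℕ := wdsP H15.QS.YHS.P z1ce_W
noncomputable def z1cc8Dd : ℕ := nat_lit 0
noncomputable def z1cc8D (u : ℕ) : ℕ := Nat.land (Nat.shiftRight z1cc8Dd (Nat.mul u (nat_lit 1))) (nat_lit 1)
noncomputable def z1cc8Pd : ℕ := nat_lit 0x2804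
noncomputable def z1cc8P (u : ℕ) : ℕ := Nat.land (Nat.shiftRight z1cc8Pd (Nat.mul u (nat_lit 7))) (nat_lit 127)
noncomputable def z1cc8Qd : ℕ := nat_lit 0x100000000000000000000
noncomputable def z1cc8Q (u : ℕ) : ℕ := Nat.land (Nat.shiftRight z1cc8Qd (Nat.mul u (nat_lit 1))) (nat_lit 1)
noncomputable def z1cc8 : H16.Lev := ⟨2, 1, z1cc8D, z1cc8P, z1cc8Q⟩
noncomputable def z1ctn0Fd : ℕ := nat_lit 0
noncomputable def z1ctn0F (u : ℕ) : ℕ := Nat.land (Nat.shiftRight z1ctn0Fd (Nat.mul u (nat_lit 1))) (nat_lit 1)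
noncomputable def z1ctn0 : Nd := ⟨z1ctn0F, (nat_lit 2), (nat_lit 1), [], [((nat_lit 0), [])], []⟩
noncomputable def z1cc0Dd : ℕ := nat_lit 2
noncomputable def z1cc0D (u : ℕ) : ℕ := Nat.land (Nat.shiftRight z1cc0Dd (Nat.mul u (nat_lit 1))) (nat_lit 1)
noncomputable def z1cc0Pd : ℕ := nat_lit 0xf86
noncomputable def z1cc0P (u : ℕ) : ℕ := Nat.land (Nat.shiftRight z1cc0Pd (Nat.mul u (nat_lit 6))) (nat_lit 63)
noncomputable def z1cc0Qd : ℕ := nat_lit 0x4000000000000000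
noncomputable def z1cc0Q (u : ℕ) : ℕ := Nat.land (Nat.shiftRight z1cc0Qd (Nat.mul u (nat_lit 1))) (nat_lit 1)
noncomputable def z1cc0 : H16.Lev := ⟨2, 2, z1cc0D, z1cc0P, z1cc0Q⟩
noncomputable def z1ctn1Fd : ℕ := nat_lit 0x6d269b7126c851b49a71429a48a8cc4d945c4646528892516532c92ca2c9289649249249248
noncomputable def z1ctn1F (u : ℕ) : ℕ := Nat.land (Nat.shiftRight z1ctn1Fd (Nat.mul u (nat_lit 3))) (nat_lit 7)
noncomputable def z1ctn1 : Nd := ⟨z1ctn1F, (nat_lit 2), (nat_lit 2), [[nat_lit 1]], [((nat_lit 0), []), ((nat_lit 0), [nat_lit 2]), ((nat_lit 0), [nat_lit 0]), ((nat_lit 0), [nat_lit 2, nat_lit 2]), ((nat_lit 0), [nat_lit 0, nat_lit 2]), ((nat_lit 0), [nat_lit 2, nat_lit 1]), ((nat_lit 0), [nat_lit 0, nat_lit 2, nat_lit 1]), ((nat_lit 0), [nat_lit 2, nat_lit 1, nat_lit 2])], []⟩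
noncomputable def z1a_W : List (List ℕ) := [[nat_lit 4, nat_lit 5, nat_lit 0, nat_lit 2, nat_lit 0, nat_lit 4, nat_lit 2, nat_lit 1, nat_lit 5, nat_lit 2, nat_lit 3, nat_lit 1, nat_lit 4, nat_lit 2, nat_lit 5, nat_lit 1, nat_lit 6]]
noncomputable def z1a_P : ℕ → ℕ → ℕ := wdsP H15.QS.YHS.P z1a_W

theorem v_lt : H16.allL (ltAll 7) v_W = true := by decide +kernel
theorem vcth_lt : H16.allL (ltAll 7) vcth_W = true := by decide +kernel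
theorem vctl0_e_0 : allZ (dent vctl0 vcth_P (nat_lit 100)) (nat_lit 0) (nat_lit 99) = true := by decide +kernel
theorem vctl0_h : 0 < vctl0.n ∧ 0 < vctl0.K ∧ vctl0.Pt 0 < 100 ∧ vctl0.Q (vctl0.Pt 0) = 0 := by decide +kernel
theorem vctl1_e_0 : allZ (dent vctl1 vcth_P (nat_lit 100)) (nat_lit 0) (nat_lit 76) = true := by decide +kernel
theorem vctl1_h : 0 < vctl1.n ∧ 0 < vctl1.K ∧ vctl1.Pt 0 < 100 ∧ vctl1.Q (vctl1.Pt 0) = 0 := by decide +kernel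
theorem vctl2_e_0 : allZ (dent vctl2 vcth_P (nat_lit 100)) (nat_lit 0) (nat_lit 15) = true := by decide +kernel
theorem vctl2_h : 0 < vctl2.n ∧ 0 < vctl2.K ∧ vctl2.Pt 0 < 100 ∧ vctl2.Q (vctl2.Pt 0) = 0 := by decide +kernel
theorem vctl3_e_0 : allZ (dent vctl3 vcth_P (nat_lit 100)) (nat_lit 0) (nat_lit 44) = true := by decide +kernel
theorem vctl3_h : 0 < vctl3.n ∧ 0 < vctl3.K ∧ vctl3.Pt 0 < 100 ∧ vctl3.Q (vctl3.Pt 0) = 0 := by decide +kernel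
theorem vctl4_e_0 : allZ (dent vctl4 vcth_P (nat_lit 100)) (nat_lit 0) (nat_lit 3) = true := by decide +kernel
theorem vctl4_h : 0 < vctl4.n ∧ 0 < vctl4.K ∧ vctl4.Pt 0 < 100 ∧ vctl4.Q (vctl4.Pt 0) = 0 := by decide +kernel
theorem vctl5_e_0 : allZ (dent vctl5 vcth_P (nat_lit 100)) (nat_lit 0) (nat_lit 1) = true := by decide +kernel
theorem vctl5_h : 0 < vctl5.n ∧ 0 < vctl5.K ∧ vctl5.Pt 0 < 100 ∧ vctl5.Q (vctl5.Pt 0) = 0 := by decide +kernel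
theorem vctl6_e_0 : allZ (dent vctl6 vcth_P (nat_lit 100)) (nat_lit 0) (nat_lit 1) = true := by decide +kernel
theorem vctl6_h : 0 < vctl6.n ∧ 0 < vctl6.K ∧ vctl6.Pt 0 < 100 ∧ vctl6.Q (vctl6.Pt 0) = 0 := by decide +kernel
theorem vct_f6 : (Nat.ble vctl6.K 16 && Nat.ble (topK []) vctl6.K && fixLetters vcth_P (topK []) (vctl6.Pt 0)) = true := by decide +kernel
theorem vct_f5 : (Nat.ble vctl5.K 16 && Nat.ble (topK [vctl6]) vctl5.K && fixLetters vcth_P (topK [vctl6]) (vctl5.Pt 0)) = true := by decide +kernel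
theorem vct_f4 : (Nat.ble vctl4.K 16 && Nat.ble (topK [vctl5, vctl6]) vctl4.K && fixLetters vcth_P (topK [vctl5, vctl6]) (vctl4.Pt 0)) = true := by decide +kernel
theorem vct_f3 : (Nat.ble vctl3.K 16 && Nat.ble (topK [vctl4, vctl5, vctl6]) vctl3.K && fixLetters vcth_P (topK [vctl4, vctl5, vctl6]) (vctl3.Pt 0)) = true := by decide +kernel
theorem vct_f2 : (Nat.ble vctl2.K 16 && Nat.ble (topK [vctl3, vctl4, vctl5, vctl6]) vctl2.K && fixLetters vcth_P (topK [vctl3, vctl4, vctl5, vctl6]) (vctl2.Pt 0)) = true := by decide +kernel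
theorem vct_f1 : (Nat.ble vctl1.K 16 && Nat.ble (topK [vctl2, vctl3, vctl4, vctl5, vctl6]) vctl1.K && fixLetters vcth_P (topK [vctl2, vctl3, vctl4, vctl5, vctl6]) (vctl1.Pt 0)) = true := by decide +kernel
theorem vct_f0 : (Nat.ble vctl0.K 16 && Nat.ble (topK [vctl1, vctl2, vctl3, vctl4, vctl5, vctl6]) vctl0.K && fixLetters vcth_P (topK [vctl1, vctl2, vctl3, vctl4, vctl5, vctl6]) (vctl0.Pt 0)) = true := by decide +kernel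
theorem vct_c : chainCard [vctl0, vctl1, vctl2, vctl3, vctl4, vctl5, vctl6] = 88704000 := by decide +kernel
theorem vce_lt : H16.allL (ltAll 7) vce_W = true := by decide +kernel
theorem vc_f6 : (Nat.ble vctl6.K 16 && Nat.blt (nat_lit 3) 100 && fixLetters vcth_P vctl6.K (nat_lit 3) && Nat.beq (ltAll 2 [nat_lit 1, nat_lit 1, nat_lit 0]) 0 && Nat.beq (apW v_P [nat_lit 1, nat_lit 1, nat_lit 0] (nat_lit 3)) (vctl6.Pt 0)) = true := by decide +kernel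
theorem vc_f5 : (Nat.ble vctl5.K 16 && Nat.blt (nat_lit 3) 100 && fixLetters vcth_P vctl5.K (nat_lit 3) && Nat.beq (ltAll 2 [nat_lit 1, nat_lit 1, nat_lit 1]) 0 && Nat.beq (apW v_P [nat_lit 1, nat_lit 1, nat_lit 1] (nat_lit 3)) (vctl5.Pt 0)) = true := by decide +kernel
theorem vc_f4 : (Nat.ble vctl4.K 16 && Nat.blt (nat_lit 3) 100 && fixLetters vcth_P vctl4.K (nat_lit 3) && Nat.beq (ltAll 2 [nat_lit 1, nat_lit 0, nat_lit 1]) 0 && Nat.beq (apW v_P [nat_lit 1, nat_lit 0, nat_lit 1] (nat_lit 3)) (vctl4.Pt 0)) = true := by decide +kernel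
theorem vc_f3 : (Nat.ble vctl3.K 16 && Nat.blt (nat_lit 3) 100 && fixLetters vcth_P vctl3.K (nat_lit 3) && Nat.beq (ltAll 2 [nat_lit 1, nat_lit 1]) 0 && Nat.beq (apW v_P [nat_lit 1, nat_lit 1] (nat_lit 3)) (vctl3.Pt 0)) = true := by decide +kernel
theorem vc_f2 : (Nat.ble vctl2.K 16 && Nat.blt (nat_lit 3) 100 && fixLetters vcth_P vctl2.K (nat_lit 3) && Nat.beq (ltAll 2 [nat_lit 1, nat_lit 0]) 0 && Nat.beq (apW v_P [nat_lit 1, nat_lit 0] (nat_lit 3)) (vctl2.Pt 0)) = true := by decide +kernel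
theorem vc_f1 : (Nat.ble vctl1.K 16 && Nat.blt (nat_lit 3) 100 && fixLetters vcth_P vctl1.K (nat_lit 3) && Nat.beq (ltAll 2 [nat_lit 1]) 0 && Nat.beq (apW v_P [nat_lit 1] (nat_lit 3)) (vctl1.Pt 0)) = true := by decide +kernel
theorem vcc0_e_0 : allZ (dent vcc0 vce_P (nat_lit 100)) (nat_lit 0) (nat_lit 1) = true := by decide +kernel
theorem vcc0_h : 0 < vcc0.n ∧ 0 < vcc0.K ∧ vcc0.Pt 0 < 100 ∧ vcc0.Q (vcc0.Pt 0) = 0 := by decide +kernel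
theorem vctn0_0 : (Nat.ble vctl0.K 16 && Nat.beq (ltAll 100 []) 0 && kChk vce_P v_P vctn0.Kn 2 H15.QS.YHS.B [] && H16.allL (ltAll 2) vctn0.pre && planOK vcth_P v_P 2 (vctl0.Pt 0) vctn0.plan [vctl0, vctl1, vctl2, vctl3, vctl4, vctl5, vctl6]) = true := by decide +kernel
theorem vctn0_1_0 : allZ (vctn0.ent H15.QS.YHS.P vcth_P v_P v_P vce_P (nat_lit 7) (nat_lit 2) H15.QS.YHS.B vctl0 [vctl1, vctl2, vctl3, vctl4, vctl5, vctl6] (memO vcc0)) (nat_lit 0) (nat_lit 100) = true := by decide +kernel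
theorem vc_f0 : (Nat.ble vcc0.K 1 && Nat.ble (topK []) vcc0.K && Nat.beq (vcc0.Pt 0) (vctl0.Pt 0) && Nat.beq (ltAll 100 []) 0 && kChk vce_P v_P vcc0.K 2 H15.QS.YHS.B []) = true := by decide +kernel
theorem vc_c : chainCard [vcc0] = 2 ∧ topK [vcc0] = 1 := by decide +kernel
theorem vl_k : allZ (fun a => Nat.add (ltAll 10 (nth [] [[nat_lit 5, nat_lit 6, nat_lit 2, nat_lit 9],
  [nat_lit 1, nat_lit 5, nat_lit 6, nat_lit 7]] a)) (sumL (fun β => Nat.xor (v_P a β) (apW H15.QS.YHS.p2t_P (nth [] [[nat_lit 5, nat_lit 6, nat_lit 2, nat_lit 9],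
  [nat_lit 1, nat_lit 5, nat_lit 6, nat_lit 7]] a) β)) H15.QS.YHS.B)) 0 2 = true := by decide +kernel
theorem vn_k : 0 < 100 ∧ ltAll 2 [nat_lit 0, nat_lit 1] = 0 ∧ ltAll 2 [nat_lit 1, nat_lit 0] = 0 ∧ apW v_P [nat_lit 0, nat_lit 1] 0 ≠ apW v_P [nat_lit 1, nat_lit 0] 0 := by decide +kernel
theorem e_lt : H16.allL (ltAll 7) e_W = true := by decide +kernel
theorem ea_k : fixL e_P 2 H15.QS.YHS.B (List.replicate 3 0) = 0 := by decide +kernel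
theorem eb_k : fixL e_P 2 H15.QS.YHS.B (List.replicate 3 1) = 0 := by decide +kernel
theorem ec_k : 0 < 100 ∧ ltAll 2 (List.replicate 1 0) = 0 ∧ ltAll 2 [] = 0 ∧ apW e_P (List.replicate 1 0) 0 ≠ apW e_P [] 0 := by decide +kernel
theorem ed_k : 0 < 100 ∧ ltAll 2 (List.replicate 1 1) = 0 ∧ ltAll 2 [] = 0 ∧ apW e_P (List.replicate 1 1) 0 ≠ apW e_P [] 0 := by decide +kernel
theorem ee_k : eqL e_P 2 H15.QS.YHS.B [nat_lit 0, nat_lit 1] [nat_lit 1, nat_lit 0] = 0 := by decide +kernel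
theorem ef_k : 0 < 100 ∧ ltAll 2 [nat_lit 0] = 0 ∧ ltAll 2 [nat_lit 1] = 0 ∧ apW e_P [nat_lit 0] 0 ≠ apW e_P [nat_lit 1] 0 := by decide +kernel
theorem eg_k : 0 < 100 ∧ ltAll 2 [nat_lit 0, nat_lit 1] = 0 ∧ ltAll 2 [] = 0 ∧ apW e_P [nat_lit 0, nat_lit 1] 0 ≠ apW e_P [] 0 := by decide +kernel
theorem z1x_lt : H16.allL (ltAll 7) z1x_W = true := by decide +kernel
theorem z1cth_lt : H16.allL (ltAll 7) z1cth_W = true := by decide +kernel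
theorem z1ctl0_e_0 : allZ (dent z1ctl0 z1cth_P (nat_lit 100)) (nat_lit 0) (nat_lit 99) = true := by decide +kernel
theorem z1ctl0_h : 0 < z1ctl0.n ∧ 0 < z1ctl0.K ∧ z1ctl0.Pt 0 < 100 ∧ z1ctl0.Q (z1ctl0.Pt 0) = 0 := by decide +kernel
theorem z1ctl1_e_0 : allZ (dent z1ctl1 z1cth_P (nat_lit 100)) (nat_lit 0) (nat_lit 76) = true := by decide +kernel
theorem z1ctl1_h : 0 < z1ctl1.n ∧ 0 < z1ctl1.K ∧ z1ctl1.Pt 0 < 100 ∧ z1ctl1.Q (z1ctl1.Pt 0) = 0 := by decide +kernel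
theorem z1ctl2_e_0 : allZ (dent z1ctl2 z1cth_P (nat_lit 100)) (nat_lit 0) (nat_lit 59) = true := by decide +kernel
theorem z1ctl2_h : 0 < z1ctl2.n ∧ 0 < z1ctl2.K ∧ z1ctl2.Pt 0 < 100 ∧ z1ctl2.Q (z1ctl2.Pt 0) = 0 := by decide +kernel
theorem z1ctl3_e_0 : allZ (dent z1ctl3 z1cth_P (nat_lit 100)) (nat_lit 0) (nat_lit 2) = true := by decide +kernel
theorem z1ctl3_h : 0 < z1ctl3.n ∧ 0 < z1ctl3.K ∧ z1ctl3.Pt 0 < 100 ∧ z1ctl3.Q (z1ctl3.Pt 0) = 0 := by decide +kernel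
theorem z1ctl4_e_0 : allZ (dent z1ctl4 z1cth_P (nat_lit 100)) (nat_lit 0) (nat_lit 1) = true := by decide +kernel
theorem z1ctl4_h : 0 < z1ctl4.n ∧ 0 < z1ctl4.K ∧ z1ctl4.Pt 0 < 100 ∧ z1ctl4.Q (z1ctl4.Pt 0) = 0 := by decide +kernel
theorem z1ctl5_e_0 : allZ (dent z1ctl5 z1cth_P (nat_lit 100)) (nat_lit 0) (nat_lit 3) = true := by decide +kernel
theorem z1ctl5_h : 0 < z1ctl5.n ∧ 0 < z1ctl5.K ∧ z1ctl5.Pt 0 < 100 ∧ z1ctl5.Q (z1ctl5.Pt 0) = 0 := by decide +kernel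
theorem z1ctl6_e_0 : allZ (dent z1ctl6 z1cth_P (nat_lit 100)) (nat_lit 0) (nat_lit 1) = true := by decide +kernel
theorem z1ctl6_h : 0 < z1ctl6.n ∧ 0 < z1ctl6.K ∧ z1ctl6.Pt 0 < 100 ∧ z1ctl6.Q (z1ctl6.Pt 0) = 0 := by decide +kernel
theorem z1ctl7_e_0 : allZ (dent z1ctl7 z1cth_P (nat_lit 100)) (nat_lit 0) (nat_lit 1) = true := by decide +kernel
theorem z1ctl7_h : 0 < z1ctl7.n ∧ 0 < z1ctl7.K ∧ z1ctl7.Pt 0 < 100 ∧ z1ctl7.Q (z1ctl7.Pt 0) = 0 := by decide +kernel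
theorem z1ctl8_e_0 : allZ (dent z1ctl8 z1cth_P (nat_lit 100)) (nat_lit 0) (nat_lit 1) = true := by decide +kernel
theorem z1ctl8_h : 0 < z1ctl8.n ∧ 0 < z1ctl8.K ∧ z1ctl8.Pt 0 < 100 ∧ z1ctl8.Q (z1ctl8.Pt 0) = 0 := by decide +kernel
theorem z1ct_f8 : (Nat.ble z1ctl8.K 18 && Nat.ble (topK []) z1ctl8.K && fixLetters z1cth_P (topK []) (z1ctl8.Pt 0)) = true := by decide +kernel
theorem z1ct_f7 : (Nat.ble z1ctl7.K 18 && Nat.ble (topK [z1ctl8]) z1ctl7.K && fixLetters z1cth_P (topK [z1ctl8]) (z1ctl7.Pt 0)) = true := by decide +kernel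
theorem z1ct_f6 : (Nat.ble z1ctl6.K 18 && Nat.ble (topK [z1ctl7, z1ctl8]) z1ctl6.K && fixLetters z1cth_P (topK [z1ctl7, z1ctl8]) (z1ctl6.Pt 0)) = true := by decide +kernel
theorem z1ct_f5 : (Nat.ble z1ctl5.K 18 && Nat.ble (topK [z1ctl6, z1ctl7, z1ctl8]) z1ctl5.K && fixLetters z1cth_P (topK [z1ctl6, z1ctl7, z1ctl8]) (z1ctl5.Pt 0)) = true := by decide +kernel
theorem z1ct_f4 : (Nat.ble z1ctl4.K 18 && Nat.ble (topK [z1ctl5, z1ctl6, z1ctl7, z1ctl8]) z1ctl4.K && fixLetters z1cth_P (topK [z1ctl5, z1ctl6, z1ctl7, z1ctl8]) (z1ctl4.Pt 0)) = true := by decide +kernel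
theorem z1ct_f3 : (Nat.ble z1ctl3.K 18 && Nat.ble (topK [z1ctl4, z1ctl5, z1ctl6, z1ctl7, z1ctl8]) z1ctl3.K && fixLetters z1cth_P (topK [z1ctl4, z1ctl5, z1ctl6, z1ctl7, z1ctl8]) (z1ctl3.Pt 0)) = true := by decide +kernel
theorem z1ct_f2 : (Nat.ble z1ctl2.K 18 && Nat.ble (topK [z1ctl3, z1ctl4, z1ctl5, z1ctl6, z1ctl7, z1ctl8]) z1ctl2.K && fixLetters z1cth_P (topK [z1ctl3, z1ctl4, z1ctl5, z1ctl6, z1ctl7, z1ctl8]) (z1ctl2.Pt 0)) = true := by decide +kernel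
theorem z1ct_f1 : (Nat.ble z1ctl1.K 18 && Nat.ble (topK [z1ctl2, z1ctl3, z1ctl4, z1ctl5, z1ctl6, z1ctl7, z1ctl8]) z1ctl1.K && fixLetters z1cth_P (topK [z1ctl2, z1ctl3, z1ctl4, z1ctl5, z1ctl6, z1ctl7, z1ctl8]) (z1ctl1.Pt 0)) = true := by decide +kernel
theorem z1ct_f0 : (Nat.ble z1ctl0.K 18 && Nat.ble (topK [z1ctl1, z1ctl2, z1ctl3, z1ctl4, z1ctl5, z1ctl6, z1ctl7, z1ctl8]) z1ctl0.K && fixLetters z1cth_P (topK [z1ctl1, z1ctl2, z1ctl3, z1ctl4, z1ctl5, z1ctl6, z1ctl7, z1ctl8]) (z1ctl0.Pt 0)) = true := by decide +kernel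
theorem z1ct_c : chainCard [z1ctl0, z1ctl1, z1ctl2, z1ctl3, z1ctl4, z1ctl5, z1ctl6, z1ctl7, z1ctl8] = 88704000 := by decide +kernel
theorem z1ce_lt : H16.allL (ltAll 7) z1ce_W = true := by decide +kernel
theorem z1cc8_e_0 : allZ (dent z1cc8 z1ce_P (nat_lit 100)) (nat_lit 0) (nat_lit 1) = true := by decide +kernel
theorem z1cc8_h : 0 < z1cc8.n ∧ 0 < z1cc8.K ∧ z1cc8.Pt 0 < 100 ∧ z1cc8.Q (z1cc8.Pt 0) = 0 := by decide +kernel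
theorem z1ctn0_0 : (Nat.ble z1ctl8.K 18 && Nat.beq (ltAll 100 [z1ctl7.Pt 0, z1ctl6.Pt 0, z1ctl5.Pt 0, z1ctl4.Pt 0, z1ctl3.Pt 0, z1ctl2.Pt 0, z1ctl1.Pt 0, z1ctl0.Pt 0]) 0 && kChk z1ce_P z1x_P z1ctn0.Kn 3 H15.QS.YHS.B [z1ctl7.Pt 0, z1ctl6.Pt 0, z1ctl5.Pt 0, z1ctl4.Pt 0, z1ctl3.Pt 0, z1ctl2.Pt 0, z1ctl1.Pt 0, z1ctl0.Pt 0] && H16.allL (ltAll 3) z1ctn0.pre && planOK z1cth_P z1x_P 3 (z1ctl8.Pt 0) z1ctn0.plan [z1ctl8]) = true := by decide +kernel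
theorem z1ctn0_1_0 : allZ (z1ctn0.ent H15.QS.YHS.P z1cth_P z1x_P z1x_P z1ce_P (nat_lit 7) (nat_lit 3) H15.QS.YHS.B z1ctl8 [] (memO z1cc8)) (nat_lit 0) (nat_lit 2) = true := by decide +kernel
theorem z1c_f8 : (Nat.ble z1cc8.K 2 && Nat.ble (topK []) z1cc8.K && Nat.beq (z1cc8.Pt 0) (z1ctl8.Pt 0) && Nat.beq (ltAll 100 [z1ctl7.Pt 0, z1ctl6.Pt 0, z1ctl5.Pt 0, z1ctl4.Pt 0, z1ctl3.Pt 0, z1ctl2.Pt 0, z1ctl1.Pt 0, z1ctl0.Pt 0]) 0 && kChk z1ce_P z1x_P z1cc8.K 3 H15.QS.YHS.B [z1ctl7.Pt 0, z1ctl6.Pt 0, z1ctl5.Pt 0, z1ctl4.Pt 0, z1ctl3.Pt 0, z1ctl2.Pt 0, z1ctl1.Pt 0, z1ctl0.Pt 0]) = true := by decide +kernel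
theorem z1c_f7 : (Nat.ble z1ctl7.K 18 && Nat.blt (nat_lit 6) 100 && fixLetters z1cth_P z1ctl7.K (nat_lit 6) && Nat.beq (ltAll 3 [nat_lit 2, nat_lit 1, nat_lit 2]) 0 && Nat.beq (apW z1x_P [nat_lit 2, nat_lit 1, nat_lit 2] (nat_lit 6)) (z1ctl7.Pt 0)) = true := by decide +kernel
theorem z1c_f6 : (Nat.ble z1ctl6.K 18 && Nat.blt (nat_lit 6) 100 && fixLetters z1cth_P z1ctl6.K (nat_lit 6) && Nat.beq (ltAll 3 [nat_lit 0, nat_lit 2, nat_lit 1]) 0 && Nat.beq (apW z1x_P [nat_lit 0, nat_lit 2, nat_lit 1] (nat_lit 6)) (z1ctl6.Pt 0)) = true := by decide +kernel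
theorem z1c_f5 : (Nat.ble z1ctl5.K 18 && Nat.blt (nat_lit 6) 100 && fixLetters z1cth_P z1ctl5.K (nat_lit 6) && Nat.beq (ltAll 3 [nat_lit 2, nat_lit 1]) 0 && Nat.beq (apW z1x_P [nat_lit 2, nat_lit 1] (nat_lit 6)) (z1ctl5.Pt 0)) = true := by decide +kernel
theorem z1c_f4 : (Nat.ble z1ctl4.K 18 && Nat.blt (nat_lit 6) 100 && fixLetters z1cth_P z1ctl4.K (nat_lit 6) && Nat.beq (ltAll 3 [nat_lit 0, nat_lit 2]) 0 && Nat.beq (apW z1x_P [nat_lit 0, nat_lit 2] (nat_lit 6)) (z1ctl4.Pt 0)) = true := by decide +kernel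
theorem z1c_f3 : (Nat.ble z1ctl3.K 18 && Nat.blt (nat_lit 6) 100 && fixLetters z1cth_P z1ctl3.K (nat_lit 6) && Nat.beq (ltAll 3 [nat_lit 2, nat_lit 2]) 0 && Nat.beq (apW z1x_P [nat_lit 2, nat_lit 2] (nat_lit 6)) (z1ctl3.Pt 0)) = true := by decide +kernel
theorem z1c_f2 : (Nat.ble z1ctl2.K 18 && Nat.blt (nat_lit 6) 100 && fixLetters z1cth_P z1ctl2.K (nat_lit 6) && Nat.beq (ltAll 3 [nat_lit 0]) 0 && Nat.beq (apW z1x_P [nat_lit 0] (nat_lit 6)) (z1ctl2.Pt 0)) = true := by decide +kernel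
theorem z1c_f1 : (Nat.ble z1ctl1.K 18 && Nat.blt (nat_lit 6) 100 && fixLetters z1cth_P z1ctl1.K (nat_lit 6) && Nat.beq (ltAll 3 [nat_lit 2]) 0 && Nat.beq (apW z1x_P [nat_lit 2] (nat_lit 6)) (z1ctl1.Pt 0)) = true := by decide +kernel
theorem z1cc0_e_0 : allZ (dent z1cc0 z1ce_P (nat_lit 100)) (nat_lit 0) (nat_lit 1) = true := by decide +kernel
theorem z1cc0_h : 0 < z1cc0.n ∧ 0 < z1cc0.K ∧ z1cc0.Pt 0 < 100 ∧ z1cc0.Q (z1cc0.Pt 0) = 0 := by decide +kernel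
theorem z1ctn1_0 : (Nat.ble z1ctl0.K 18 && Nat.beq (ltAll 100 []) 0 && kChk z1ce_P z1x_P z1ctn1.Kn 3 H15.QS.YHS.B [] && H16.allL (ltAll 3) z1ctn1.pre && planOK z1cth_P z1x_P 3 (z1ctl0.Pt 0) z1ctn1.plan [z1ctl0, z1ctl1, z1ctl2, z1ctl3, z1ctl4, z1ctl5, z1ctl6, z1ctl7, z1ctl8]) = true := by decide +kernel
theorem z1ctn1_1_0 : allZ (z1ctn1.ent H15.QS.YHS.P z1cth_P z1x_P z1x_P z1ce_P (nat_lit 7) (nat_lit 3) H15.QS.YHS.B z1ctl0 [z1ctl1, z1ctl2, z1ctl3, z1ctl4, z1ctl5, z1ctl6, z1ctl7, z1ctl8] (memO z1cc0)) (nat_lit 0) (nat_lit 100) = true := by decide +kernel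
theorem z1c_f0 : (Nat.ble z1cc0.K 2 && Nat.ble (topK [z1cc8]) z1cc0.K && Nat.beq (z1cc0.Pt 0) (z1ctl0.Pt 0) && Nat.beq (ltAll 100 []) 0 && kChk z1ce_P z1x_P z1cc0.K 3 H15.QS.YHS.B []) = true := by decide +kernel
theorem z1c_c : chainCard [z1cc0, z1cc8] = 4 ∧ topK [z1cc0, z1cc8] = 2 := by decide +kernel
theorem z1z_k_0 : allZ (cmEnt z1x_P z1x_P (nat_lit 3) H15.QS.YHS.B (nat_lit 0)) (nat_lit 0) (nat_lit 3) = true := by decide +kernel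
theorem z1s_k : fixL z1x_P 3 H15.QS.YHS.B (List.replicate 2 0) = 0 := by decide +kernel
theorem z1n_k : 0 < 100 ∧ ltAll 3 (List.replicate 1 0) = 0 ∧ ltAll 3 [] = 0 ∧ apW z1x_P (List.replicate 1 0) 0 ≠ apW z1x_P [] 0 := by decide +kernel
theorem z1p0_k : fixL z1x_P 3 H15.QS.YHS.B (List.replicate 3 1) = 0 := by decide +kernel
theorem z1p1_k : fixL z1x_P 3 H15.QS.YHS.B (List.replicate 3 2) = 0 := by decide +kernel
theorem z1a_lt : H16.allL (ltAll 7) z1a_W = true := by decide +kernel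
theorem z1b_k_0 : allZ (cmEnt z1x_P z1a_P (nat_lit 3) H15.QS.YHS.B (nat_lit 0)) (nat_lit 0) (nat_lit 3) = true := by decide +kernel

theorem v_act {G Ω : Type*} [Group G] [MulAction G Ω] {g : ℕ → G} {pt : ℕ → Ω}
    (M : Md g pt H15.QS.YHS.P 100 7 H15.QS.YHS.B 88704000) : Act (wds g v_W) pt v_P 100 2 :=
  M.wact v_lt
theorem vcth_act {G Ω : Type*} [Group G] [MulAction G Ω] {g : ℕ → G} {pt : ℕ → Ω}
    (M : Md g pt H15.QS.YHS.P 100 7 H15.QS.YHS.B 88704000) : Act (wds g vcth_W) pt vcth_P 100 16 :=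
  M.wact vcth_lt
theorem vctl0_e : ∀ i < 99, (dent vctl0 vcth_P (nat_lit 100)) i = 0 := allZ_sound0 vctl0_e_0
theorem vctl0_ok : DOK vctl0 vcth_P 100 := ⟨vctl0_h, vctl0_e⟩
theorem vctl1_e : ∀ i < 76, (dent vctl1 vcth_P (nat_lit 100)) i = 0 := allZ_sound0 vctl1_e_0
theorem vctl1_ok : DOK vctl1 vcth_P 100 := ⟨vctl1_h, vctl1_e⟩
theorem vctl2_e : ∀ i < 15, (dent vctl2 vcth_P (nat_lit 100)) i = 0 := allZ_sound0 vctl2_e_0
theorem vctl2_ok : DOK vctl2 vcth_P 100 := ⟨vctl2_h, vctl2_e⟩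
theorem vctl3_e : ∀ i < 44, (dent vctl3 vcth_P (nat_lit 100)) i = 0 := allZ_sound0 vctl3_e_0
theorem vctl3_ok : DOK vctl3 vcth_P 100 := ⟨vctl3_h, vctl3_e⟩
theorem vctl4_e : ∀ i < 3, (dent vctl4 vcth_P (nat_lit 100)) i = 0 := allZ_sound0 vctl4_e_0
theorem vctl4_ok : DOK vctl4 vcth_P 100 := ⟨vctl4_h, vctl4_e⟩
theorem vctl5_e : ∀ i < 1, (dent vctl5 vcth_P (nat_lit 100)) i = 0 := allZ_sound0 vctl5_e_0
theorem vctl5_ok : DOK vctl5 vcth_P 100 := ⟨vctl5_h, vctl5_e⟩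
theorem vctl6_e : ∀ i < 1, (dent vctl6 vcth_P (nat_lit 100)) i = 0 := allZ_sound0 vctl6_e_0
theorem vctl6_ok : DOK vctl6 vcth_P 100 := ⟨vctl6_h, vctl6_e⟩
theorem vct_low {G Ω : Type*} [Group G] [MulAction G Ω] {g : ℕ → G} {pt : ℕ → Ω}
    (M : Md g pt H15.QS.YHS.P 100 7 H15.QS.YHS.B 88704000) : SLow (gi (wds g vcth_W)) pt 100 [vctl0, vctl1, vctl2, vctl3, vctl4, vctl5, vctl6] :=
  (((((((SLow.nil).cons vctl6_ok (vcth_act M) vct_f6).cons vctl5_ok (vcth_act M) vct_f5).cons vctl4_ok (vcth_act M) vct_f4).cons vctl3_ok (vcth_act M) vct_f3).cons vctl2_ok (vcth_act M) vct_f2).cons vctl1_ok (vcth_act M) vct_f1).cons vctl0_ok (vcth_act M) vct_f0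
theorem vct_S0 {G Ω : Type*} [Group G] [MulAction G Ω] {g : ℕ → G} {pt : ℕ → Ω}
    (M : Md g pt H15.QS.YHS.P 100 7 H15.QS.YHS.B 88704000) : Stage ⊤ (wds g vcth_W) pt 100 [vctl0, vctl1, vctl2, vctl3, vctl4, vctl5, vctl6] [] :=
  M.stage (vct_low M) vct_c
theorem vct_S1 {G Ω : Type*} [Group G] [MulAction G Ω] {g : ℕ → G} {pt : ℕ → Ω}
    (M : Md g pt H15.QS.YHS.P 100 7 H15.QS.YHS.B 88704000) : Stage ⊤ (wds g vcth_W) pt 100 [vctl1, vctl2, vctl3, vctl4, vctl5, vctl6] [vctl0.Pt 0] :=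
  (vct_S0 M).next
theorem vct_S2 {G Ω : Type*} [Group G] [MulAction G Ω] {g : ℕ → G} {pt : ℕ → Ω}
    (M : Md g pt H15.QS.YHS.P 100 7 H15.QS.YHS.B 88704000) : Stage ⊤ (wds g vcth_W) pt 100 [vctl2, vctl3, vctl4, vctl5, vctl6] [vctl1.Pt 0, vctl0.Pt 0] :=
  (vct_S1 M).next
theorem vct_S3 {G Ω : Type*} [Group G] [MulAction G Ω] {g : ℕ → G} {pt : ℕ → Ω}
    (M : Md g pt H15.QS.YHS.P 100 7 H15.QS.YHS.B 88704000) : Stage ⊤ (wds g vcth_W) pt 100 [vctl3, vctl4, vctl5, vctl6] [vctl2.Pt 0, vctl1.Pt 0, vctl0.Pt 0] :=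
  (vct_S2 M).next
theorem vct_S4 {G Ω : Type*} [Group G] [MulAction G Ω] {g : ℕ → G} {pt : ℕ → Ω}
    (M : Md g pt H15.QS.YHS.P 100 7 H15.QS.YHS.B 88704000) : Stage ⊤ (wds g vcth_W) pt 100 [vctl4, vctl5, vctl6] [vctl3.Pt 0, vctl2.Pt 0, vctl1.Pt 0, vctl0.Pt 0] :=
  (vct_S3 M).next
theorem vct_S5 {G Ω : Type*} [Group G] [MulAction G Ω] {g : ℕ → G} {pt : ℕ → Ω}
    (M : Md g pt H15.QS.YHS.P 100 7 H15.QS.YHS.B 88704000) : Stage ⊤ (wds g vcth_W) pt 100 [vctl5, vctl6] [vctl4.Pt 0, vctl3.Pt 0, vctl2.Pt 0, vctl1.Pt 0, vctl0.Pt 0] :=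
  (vct_S4 M).next
theorem vct_S6 {G Ω : Type*} [Group G] [MulAction G Ω] {g : ℕ → G} {pt : ℕ → Ω}
    (M : Md g pt H15.QS.YHS.P 100 7 H15.QS.YHS.B 88704000) : Stage ⊤ (wds g vcth_W) pt 100 [vctl6] [vctl5.Pt 0, vctl4.Pt 0, vctl3.Pt 0, vctl2.Pt 0, vctl1.Pt 0, vctl0.Pt 0] :=
  (vct_S5 M).next
theorem vct_S7 {G Ω : Type*} [Group G] [MulAction G Ω] {g : ℕ → G} {pt : ℕ → Ω}
    (M : Md g pt H15.QS.YHS.P 100 7 H15.QS.YHS.B 88704000) : Stage ⊤ (wds g vcth_W) pt 100 [] [vctl6.Pt 0, vctl5.Pt 0, vctl4.Pt 0, vctl3.Pt 0, vctl2.Pt 0, vctl1.Pt 0, vctl0.Pt 0] :=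
  (vct_S6 M).next
theorem vce_act {G Ω : Type*} [Group G] [MulAction G Ω] {g : ℕ → G} {pt : ℕ → Ω}
    (M : Md g pt H15.QS.YHS.P 100 7 H15.QS.YHS.B 88704000) : Act (wds g vce_W) pt vce_P 100 1 :=
  M.wact vce_lt
theorem vcc0_e : ∀ i < 1, (dent vcc0 vce_P (nat_lit 100)) i = 0 := allZ_sound0 vcc0_e_0
theorem vcc0_ok : DOK vcc0 vce_P 100 := ⟨vcc0_h, vcc0_e⟩
theorem vctn0_1 : ∀ i < 100, (vctn0.ent H15.QS.YHS.P vcth_P v_P v_P vce_P (nat_lit 7) (nat_lit 2) H15.QS.YHS.B vctl0 [vctl1, vctl2, vctl3, vctl4, vctl5, vctl6] (memO vcc0)) i = 0 := allZ_sound0 vctn0_1_0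
theorem vctn0_t {G Ω : Type*} [Group G] [MulAction G Ω] {g : ℕ → G} {pt : ℕ → Ω}
    (M : Md g pt H15.QS.YHS.P 100 7 H15.QS.YHS.B 88704000) : TrO (gen (wds g vcth_W) vctl0.K) (wds g v_W) (wds g v_W) 2 pt 100 (vctl0.Pt 0) (memO vcc0) :=
  node M (vct_S0 M) (vcth_act M) (v_act M) (v_act M) vctn0 ((vce_act M).mono (by decide)) (fun _ _ => trivial) vctn0_0 vctn0_1 (List.forall_mem_nil _)
theorem vc {G Ω : Type*} [Group G] [MulAction G Ω] {g : ℕ → G} {pt : ℕ → Ω}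
    (M : Md g pt H15.QS.YHS.P 100 7 H15.QS.YHS.B 88704000) : Cen ⊤ (wds g v_W) 2 (wds g vce_W) pt 100 [vcc0] :=
  (vct_S0 M).top ▸ Cen.lev M (vct_S0 M) (Cen.triv (vct_S1 M) (Cen.triv (vct_S2 M) (Cen.triv (vct_S3 M) (Cen.triv (vct_S4 M) (Cen.triv (vct_S5 M) (Cen.triv (vct_S6 M) (Cen.bot) (forced (vct_S6 M) (vcth_act M) (v_act M) _ _ vc_f6)) (forced (vct_S5 M) (vcth_act M) (v_act M) _ _ vc_f5)) (forced (vct_S4 M) (vcth_act M) (v_act M) _ _ vc_f4)) (forced (vct_S3 M) (vcth_act M) (v_act M) _ _ vc_f3)) (forced (vct_S2 M) (vcth_act M) (v_act M) _ _ vc_f2)) (forced (vct_S1 M) (vcth_act M) (v_act M) _ _ vc_f1)) (vctn0_t M) (v_act M) (vce_act M) (fun _ _ => trivial) vcc0_ok vc_f0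
theorem vc_eq {G Ω : Type*} [Group G] [MulAction G Ω] {g : ℕ → G} {pt : ℕ → Ω}
    (M : Md g pt H15.QS.YHS.P 100 7 H15.QS.YHS.B 88704000) : Subgroup.centralizer (gen (wds g v_W) 2) = gen (wds g vce_W) 1 ∧ Nat.card (gen (wds g vce_W) 1) = 2 :=
  vc_c.1 ▸ vc_c.2 ▸ ⟨(vc M).cent, (vc M).card M.inj⟩
theorem vl {G Ω : Type*} [Group G] [MulAction G Ω] {g : ℕ → G} {pt : ℕ → Ω}
    (M : Md g pt H15.QS.YHS.P 100 7 H15.QS.YHS.B 88704000) : gen (wds g v_W) 2 ≤ gen (wds g H15.QS.YHS.p2t_W) 10 :=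
  M.gen_le (H15.QS.YHS.p2t_act M) (v_act M) vl_k
theorem vn {G Ω : Type*} [Group G] [MulAction G Ω] {g : ℕ → G} {pt : ℕ → Ω}
    (M : Md g pt H15.QS.YHS.P 100 7 H15.QS.YHS.B 88704000) : evA (wds g v_W) [0, 1] ≠ evA (wds g v_W) [1, 0] :=
  M.nrel (v_act M) _ vn_k
theorem vcy {G Ω : Type*} [Group G] [MulAction G Ω] {g : ℕ → G} {pt : ℕ → Ω}
    (M : Md g pt H15.QS.YHS.P 100 7 H15.QS.YHS.B 88704000) : H19.Cyc (Subgroup.centralizer ((gen (wds g v_W) 2) : Set G)) :=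
  have := M.fin
  cyc2 ((congrArg (fun H : Subgroup G => Nat.card H) (vc_eq M).1).trans (vc_eq M).2)
theorem cs {G Ω : Type*} [Group G] [MulAction G Ω] {g : ℕ → G} {pt : ℕ → Ω}
    (M : Md g pt H15.QS.YHS.P 100 7 H15.QS.YHS.B 88704000) : CS (gen g 6) :=
  have := M.fin
  cs_v (gen_wds_le (by decide +kernel) _) (pg_pc (H15.QS.YHS.p2_pc M) (vl M)) (nab (by decide) (vn M)) (vcy M)
theorem e_act {G Ω : Type*} [Group G] [MulAction G Ω] {g : ℕ → G} {pt : ℕ → Ω}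
    (M : Md g pt H15.QS.YHS.P 100 7 H15.QS.YHS.B 88704000) : Act (wds g e_W) pt e_P 100 2 :=
  M.wact e_lt
theorem ea {G Ω : Type*} [Group G] [MulAction G Ω] {g : ℕ → G} {pt : ℕ → Ω}
    (M : Md g pt H15.QS.YHS.P 100 7 H15.QS.YHS.B 88704000) : (wds g e_W) 0 ^ 3 = 1 :=
  M.pw (e_act M) ea_k
theorem eb {G Ω : Type*} [Group G] [MulAction G Ω] {g : ℕ → G} {pt : ℕ → Ω}
    (M : Md g pt H15.QS.YHS.P 100 7 H15.QS.YHS.B 88704000) : (wds g e_W) 1 ^ 3 = 1 :=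
  M.pw (e_act M) eb_k
theorem ec {G Ω : Type*} [Group G] [MulAction G Ω] {g : ℕ → G} {pt : ℕ → Ω}
    (M : Md g pt H15.QS.YHS.P 100 7 H15.QS.YHS.B 88704000) : (wds g e_W) 0 ^ 1 ≠ 1 :=
  M.npw (e_act M) _ ec_k
theorem ed {G Ω : Type*} [Group G] [MulAction G Ω] {g : ℕ → G} {pt : ℕ → Ω}
    (M : Md g pt H15.QS.YHS.P 100 7 H15.QS.YHS.B 88704000) : (wds g e_W) 1 ^ 1 ≠ 1 :=
  M.npw (e_act M) _ ed_k
theorem ee {G Ω : Type*} [Group G] [MulAction G Ω] {g : ℕ → G} {pt : ℕ → Ω}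
    (M : Md g pt H15.QS.YHS.P 100 7 H15.QS.YHS.B 88704000) : evA (wds g e_W) [0, 1] = evA (wds g e_W) [1, 0] :=
  M.eq_of (e_act M) ee_k
theorem ef {G Ω : Type*} [Group G] [MulAction G Ω] {g : ℕ → G} {pt : ℕ → Ω}
    (M : Md g pt H15.QS.YHS.P 100 7 H15.QS.YHS.B 88704000) : evA (wds g e_W) [0] ≠ evA (wds g e_W) [1] :=
  M.nrel (e_act M) _ ef_k
theorem eg {G Ω : Type*} [Group G] [MulAction G Ω] {g : ℕ → G} {pt : ℕ → Ω}
    (M : Md g pt H15.QS.YHS.P 100 7 H15.QS.YHS.B 88704000) : evA (wds g e_W) [0, 1] ≠ evA (wds g e_W) [] :=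
  M.nrel (e_act M) _ eg_k
theorem e9' {G Ω : Type*} [Group G] [MulAction G Ω] {g : ℕ → G} {pt : ℕ → Ω}
    (M : Md g pt H15.QS.YHS.P 100 7 H15.QS.YHS.B 88704000) : ∃ E, H19.El 3 2 E (gen g 6) :=
  have := M.fin
  e9 (gen_wds_le (by decide +kernel) _) (ea M) (eb M) (ec M) (ed M) (ee M) (ef M) (eg M)
theorem z1x_act {G Ω : Type*} [Group G] [MulAction G Ω] {g : ℕ → G} {pt : ℕ → Ω}
    (M : Md g pt H15.QS.YHS.P 100 7 H15.QS.YHS.B 88704000) : Act (wds g z1x_W) pt z1x_P 100 3 :=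
  M.wact z1x_lt
theorem z1cth_act {G Ω : Type*} [Group G] [MulAction G Ω] {g : ℕ → G} {pt : ℕ → Ω}
    (M : Md g pt H15.QS.YHS.P 100 7 H15.QS.YHS.B 88704000) : Act (wds g z1cth_W) pt z1cth_P 100 18 :=
  M.wact z1cth_lt
theorem z1ctl0_e : ∀ i < 99, (dent z1ctl0 z1cth_P (nat_lit 100)) i = 0 := allZ_sound0 z1ctl0_e_0
theorem z1ctl0_ok : DOK z1ctl0 z1cth_P 100 := ⟨z1ctl0_h, z1ctl0_e⟩
theorem z1ctl1_e : ∀ i < 76, (dent z1ctl1 z1cth_P (nat_lit 100)) i = 0 := allZ_sound0 z1ctl1_e_0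
theorem z1ctl1_ok : DOK z1ctl1 z1cth_P 100 := ⟨z1ctl1_h, z1ctl1_e⟩
theorem z1ctl2_e : ∀ i < 59, (dent z1ctl2 z1cth_P (nat_lit 100)) i = 0 := allZ_sound0 z1ctl2_e_0
theorem z1ctl2_ok : DOK z1ctl2 z1cth_P 100 := ⟨z1ctl2_h, z1ctl2_e⟩
theorem z1ctl3_e : ∀ i < 2, (dent z1ctl3 z1cth_P (nat_lit 100)) i = 0 := allZ_sound0 z1ctl3_e_0
theorem z1ctl3_ok : DOK z1ctl3 z1cth_P 100 := ⟨z1ctl3_h, z1ctl3_e⟩
theorem z1ctl4_e : ∀ i < 1, (dent z1ctl4 z1cth_P (nat_lit 100)) i = 0 := allZ_sound0 z1ctl4_e_0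
theorem z1ctl4_ok : DOK z1ctl4 z1cth_P 100 := ⟨z1ctl4_h, z1ctl4_e⟩
theorem z1ctl5_e : ∀ i < 3, (dent z1ctl5 z1cth_P (nat_lit 100)) i = 0 := allZ_sound0 z1ctl5_e_0
theorem z1ctl5_ok : DOK z1ctl5 z1cth_P 100 := ⟨z1ctl5_h, z1ctl5_e⟩
theorem z1ctl6_e : ∀ i < 1, (dent z1ctl6 z1cth_P (nat_lit 100)) i = 0 := allZ_sound0 z1ctl6_e_0
theorem z1ctl6_ok : DOK z1ctl6 z1cth_P 100 := ⟨z1ctl6_h, z1ctl6_e⟩
theorem z1ctl7_e : ∀ i < 1, (dent z1ctl7 z1cth_P (nat_lit 100)) i = 0 := allZ_sound0 z1ctl7_e_0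
theorem z1ctl7_ok : DOK z1ctl7 z1cth_P 100 := ⟨z1ctl7_h, z1ctl7_e⟩
theorem z1ctl8_e : ∀ i < 1, (dent z1ctl8 z1cth_P (nat_lit 100)) i = 0 := allZ_sound0 z1ctl8_e_0
theorem z1ctl8_ok : DOK z1ctl8 z1cth_P 100 := ⟨z1ctl8_h, z1ctl8_e⟩
theorem z1ct_low {G Ω : Type*} [Group G] [MulAction G Ω] {g : ℕ → G} {pt : ℕ → Ω}
    (M : Md g pt H15.QS.YHS.P 100 7 H15.QS.YHS.B 88704000) : SLow (gi (wds g z1cth_W)) pt 100 [z1ctl0, z1ctl1, z1ctl2, z1ctl3, z1ctl4, z1ctl5, z1ctl6, z1ctl7, z1ctl8] :=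
  (((((((((SLow.nil).cons z1ctl8_ok (z1cth_act M) z1ct_f8).cons z1ctl7_ok (z1cth_act M) z1ct_f7).cons z1ctl6_ok (z1cth_act M) z1ct_f6).cons z1ctl5_ok (z1cth_act M) z1ct_f5).cons z1ctl4_ok (z1cth_act M) z1ct_f4).cons z1ctl3_ok (z1cth_act M) z1ct_f3).cons z1ctl2_ok (z1cth_act M) z1ct_f2).cons z1ctl1_ok (z1cth_act M) z1ct_f1).cons z1ctl0_ok (z1cth_act M) z1ct_f0
theorem z1ct_S0 {G Ω : Type*} [Group G] [MulAction G Ω] {g : ℕ → G} {pt : ℕ → Ω}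
    (M : Md g pt H15.QS.YHS.P 100 7 H15.QS.YHS.B 88704000) : Stage ⊤ (wds g z1cth_W) pt 100 [z1ctl0, z1ctl1, z1ctl2, z1ctl3, z1ctl4, z1ctl5, z1ctl6, z1ctl7, z1ctl8] [] :=
  M.stage (z1ct_low M) z1ct_c
theorem z1ct_S1 {G Ω : Type*} [Group G] [MulAction G Ω] {g : ℕ → G} {pt : ℕ → Ω}
    (M : Md g pt H15.QS.YHS.P 100 7 H15.QS.YHS.B 88704000) : Stage ⊤ (wds g z1cth_W) pt 100 [z1ctl1, z1ctl2, z1ctl3, z1ctl4, z1ctl5, z1ctl6, z1ctl7, z1ctl8] [z1ctl0.Pt 0] :=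
  (z1ct_S0 M).next
theorem z1ct_S2 {G Ω : Type*} [Group G] [MulAction G Ω] {g : ℕ → G} {pt : ℕ → Ω}
    (M : Md g pt H15.QS.YHS.P 100 7 H15.QS.YHS.B 88704000) : Stage ⊤ (wds g z1cth_W) pt 100 [z1ctl2, z1ctl3, z1ctl4, z1ctl5, z1ctl6, z1ctl7, z1ctl8] [z1ctl1.Pt 0, z1ctl0.Pt 0] :=
  (z1ct_S1 M).next
theorem z1ct_S3 {G Ω : Type*} [Group G] [MulAction G Ω] {g : ℕ → G} {pt : ℕ → Ω}
    (M : Md g pt H15.QS.YHS.P 100 7 H15.QS.YHS.B 88704000) : Stage ⊤ (wds g z1cth_W) pt 100 [z1ctl3, z1ctl4, z1ctl5, z1ctl6, z1ctl7, z1ctl8] [z1ctl2.Pt 0, z1ctl1.Pt 0, z1ctl0.Pt 0] :=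
  (z1ct_S2 M).next
theorem z1ct_S4 {G Ω : Type*} [Group G] [MulAction G Ω] {g : ℕ → G} {pt : ℕ → Ω}
    (M : Md g pt H15.QS.YHS.P 100 7 H15.QS.YHS.B 88704000) : Stage ⊤ (wds g z1cth_W) pt 100 [z1ctl4, z1ctl5, z1ctl6, z1ctl7, z1ctl8] [z1ctl3.Pt 0, z1ctl2.Pt 0, z1ctl1.Pt 0, z1ctl0.Pt 0] :=
  (z1ct_S3 M).next
theorem z1ct_S5 {G Ω : Type*} [Group G] [MulAction G Ω] {g : ℕ → G} {pt : ℕ → Ω}
    (M : Md g pt H15.QS.YHS.P 100 7 H15.QS.YHS.B 88704000) : Stage ⊤ (wds g z1cth_W) pt 100 [z1ctl5, z1ctl6, z1ctl7, z1ctl8] [z1ctl4.Pt 0, z1ctl3.Pt 0, z1ctl2.Pt 0, z1ctl1.Pt 0, z1ctl0.Pt 0] :=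
  (z1ct_S4 M).next
theorem z1ct_S6 {G Ω : Type*} [Group G] [MulAction G Ω] {g : ℕ → G} {pt : ℕ → Ω}
    (M : Md g pt H15.QS.YHS.P 100 7 H15.QS.YHS.B 88704000) : Stage ⊤ (wds g z1cth_W) pt 100 [z1ctl6, z1ctl7, z1ctl8] [z1ctl5.Pt 0, z1ctl4.Pt 0, z1ctl3.Pt 0, z1ctl2.Pt 0, z1ctl1.Pt 0, z1ctl0.Pt 0] :=
  (z1ct_S5 M).next
theorem z1ct_S7 {G Ω : Type*} [Group G] [MulAction G Ω] {g : ℕ → G} {pt : ℕ → Ω}
    (M : Md g pt H15.QS.YHS.P 100 7 H15.QS.YHS.B 88704000) : Stage ⊤ (wds g z1cth_W) pt 100 [z1ctl7, z1ctl8] [z1ctl6.Pt 0, z1ctl5.Pt 0, z1ctl4.Pt 0, z1ctl3.Pt 0, z1ctl2.Pt 0, z1ctl1.Pt 0, z1ctl0.Pt 0] :=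
  (z1ct_S6 M).next
theorem z1ct_S8 {G Ω : Type*} [Group G] [MulAction G Ω] {g : ℕ → G} {pt : ℕ → Ω}
    (M : Md g pt H15.QS.YHS.P 100 7 H15.QS.YHS.B 88704000) : Stage ⊤ (wds g z1cth_W) pt 100 [z1ctl8] [z1ctl7.Pt 0, z1ctl6.Pt 0, z1ctl5.Pt 0, z1ctl4.Pt 0, z1ctl3.Pt 0, z1ctl2.Pt 0, z1ctl1.Pt 0, z1ctl0.Pt 0] :=
  (z1ct_S7 M).next
theorem z1ct_S9 {G Ω : Type*} [Group G] [MulAction G Ω] {g : ℕ → G} {pt : ℕ → Ω}
    (M : Md g pt H15.QS.YHS.P 100 7 H15.QS.YHS.B 88704000) : Stage ⊤ (wds g z1cth_W) pt 100 [] [z1ctl8.Pt 0, z1ctl7.Pt 0, z1ctl6.Pt 0, z1ctl5.Pt 0, z1ctl4.Pt 0, z1ctl3.Pt 0, z1ctl2.Pt 0, z1ctl1.Pt 0, z1ctl0.Pt 0] :=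
  (z1ct_S8 M).next
theorem z1ce_act {G Ω : Type*} [Group G] [MulAction G Ω] {g : ℕ → G} {pt : ℕ → Ω}
    (M : Md g pt H15.QS.YHS.P 100 7 H15.QS.YHS.B 88704000) : Act (wds g z1ce_W) pt z1ce_P 100 2 :=
  M.wact z1ce_lt
theorem z1cc8_e : ∀ i < 1, (dent z1cc8 z1ce_P (nat_lit 100)) i = 0 := allZ_sound0 z1cc8_e_0
theorem z1cc8_ok : DOK z1cc8 z1ce_P 100 := ⟨z1cc8_h, z1cc8_e⟩
theorem z1ctn0_1 : ∀ i < 2, (z1ctn0.ent H15.QS.YHS.P z1cth_P z1x_P z1x_P z1ce_P (nat_lit 7) (nat_lit 3) H15.QS.YHS.B z1ctl8 [] (memO z1cc8)) i = 0 := allZ_sound0 z1ctn0_1_0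
theorem z1ctn0_t {G Ω : Type*} [Group G] [MulAction G Ω] {g : ℕ → G} {pt : ℕ → Ω}
    (M : Md g pt H15.QS.YHS.P 100 7 H15.QS.YHS.B 88704000) : TrO (gen (wds g z1cth_W) z1ctl8.K) (wds g z1x_W) (wds g z1x_W) 3 pt 100 (z1ctl8.Pt 0) (memO z1cc8) :=
  node M (z1ct_S8 M) (z1cth_act M) (z1x_act M) (z1x_act M) z1ctn0 ((z1ce_act M).mono (by decide)) (fun _ _ => trivial) z1ctn0_0 z1ctn0_1 (List.forall_mem_nil _)
theorem z1cc0_e : ∀ i < 1, (dent z1cc0 z1ce_P (nat_lit 100)) i = 0 := allZ_sound0 z1cc0_e_0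
theorem z1cc0_ok : DOK z1cc0 z1ce_P 100 := ⟨z1cc0_h, z1cc0_e⟩
theorem z1ctn1_1 : ∀ i < 100, (z1ctn1.ent H15.QS.YHS.P z1cth_P z1x_P z1x_P z1ce_P (nat_lit 7) (nat_lit 3) H15.QS.YHS.B z1ctl0 [z1ctl1, z1ctl2, z1ctl3, z1ctl4, z1ctl5, z1ctl6, z1ctl7, z1ctl8] (memO z1cc0)) i = 0 := allZ_sound0 z1ctn1_1_0
theorem z1ctn1_t {G Ω : Type*} [Group G] [MulAction G Ω] {g : ℕ → G} {pt : ℕ → Ω}
    (M : Md g pt H15.QS.YHS.P 100 7 H15.QS.YHS.B 88704000) : TrO (gen (wds g z1cth_W) z1ctl0.K) (wds g z1x_W) (wds g z1x_W) 3 pt 100 (z1ctl0.Pt 0) (memO z1cc0) :=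
  node M (z1ct_S0 M) (z1cth_act M) (z1x_act M) (z1x_act M) z1ctn1 ((z1ce_act M).mono (by decide)) (fun _ _ => trivial) z1ctn1_0 z1ctn1_1 (List.forall_mem_nil _)
theorem z1c {G Ω : Type*} [Group G] [MulAction G Ω] {g : ℕ → G} {pt : ℕ → Ω}
    (M : Md g pt H15.QS.YHS.P 100 7 H15.QS.YHS.B 88704000) : Cen ⊤ (wds g z1x_W) 3 (wds g z1ce_W) pt 100 [z1cc0, z1cc8] :=
  (z1ct_S0 M).top ▸ Cen.lev M (z1ct_S0 M) (Cen.triv (z1ct_S1 M) (Cen.triv (z1ct_S2 M) (Cen.triv (z1ct_S3 M) (Cen.triv (z1ct_S4 M) (Cen.triv (z1ct_S5 M) (Cen.triv (z1ct_S6 M) (Cen.triv (z1ct_S7 M) (Cen.lev M (z1ct_S8 M) (Cen.bot) (z1ctn0_t M) (z1x_act M) (z1ce_act M) (fun _ _ => trivial) z1cc8_ok z1c_f8) (forced (z1ct_S7 M) (z1cth_act M) (z1x_act M) _ _ z1c_f7)) (forced (z1ct_S6 M) (z1cth_act M) (z1x_act M) _ _ z1c_f6)) (forced (z1ct_S5 M) (z1cth_act M) (z1x_act M) _ _ z1c_f5)) (forced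 (z1ct_S4 M) (z1cth_act M) (z1x_act M) _ _ z1c_f4)) (forced (z1ct_S3 M) (z1cth_act M) (z1x_act M) _ _ z1c_f3)) (forced (z1ct_S2 M) (z1cth_act M) (z1x_act M) _ _ z1c_f2)) (forced (z1ct_S1 M) (z1cth_act M) (z1x_act M) _ _ z1c_f1)) (z1ctn1_t M) (z1x_act M) (z1ce_act M) (fun _ _ => trivial) z1cc0_ok z1c_f0
theorem z1c_eq {G Ω : Type*} [Group G] [MulAction G Ω] {g : ℕ → G} {pt : ℕ → Ω}
    (M : Md g pt H15.QS.YHS.P 100 7 H15.QS.YHS.B 88704000) : Subgroup.centralizer (gen (wds g z1x_W) 3) = gen (wds g z1ce_W) 2 ∧ Nat.card (gen (wds g z1ce_W) 2) = 4 :=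
  z1c_c.1 ▸ z1c_c.2 ▸ ⟨(z1c M).cent, (z1c M).card M.inj⟩
theorem z1z_k : ∀ i < 3, (cmEnt z1x_P z1x_P (nat_lit 3) H15.QS.YHS.B (nat_lit 0)) i = 0 := allZ_sound0 z1z_k_0
theorem z1z {G Ω : Type*} [Group G] [MulAction G Ω] {g : ℕ → G} {pt : ℕ → Ω}
    (M : Md g pt H15.QS.YHS.P 100 7 H15.QS.YHS.B 88704000) : (wds g z1x_W) 0 ∈ Subgroup.centralizer ((gen (wds g z1x_W) 3) : Set G) :=
  cms M (z1x_act M) (z1x_act M) (by decide) z1z_k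
theorem z1s {G Ω : Type*} [Group G] [MulAction G Ω] {g : ℕ → G} {pt : ℕ → Ω}
    (M : Md g pt H15.QS.YHS.P 100 7 H15.QS.YHS.B 88704000) : (wds g z1x_W) 0 ^ 2 = 1 :=
  M.pw (z1x_act M) z1s_k
theorem z1n {G Ω : Type*} [Group G] [MulAction G Ω] {g : ℕ → G} {pt : ℕ → Ω}
    (M : Md g pt H15.QS.YHS.P 100 7 H15.QS.YHS.B 88704000) : (wds g z1x_W) 0 ^ 1 ≠ 1 :=
  M.npw (z1x_act M) _ z1n_k
theorem z1p0 {G Ω : Type*} [Group G] [MulAction G Ω] {g : ℕ → G} {pt : ℕ → Ω}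
    (M : Md g pt H15.QS.YHS.P 100 7 H15.QS.YHS.B 88704000) : (wds g z1x_W) 1 ^ 3 = 1 :=
  M.pw (z1x_act M) z1p0_k
theorem z1p1 {G Ω : Type*} [Group G] [MulAction G Ω] {g : ℕ → G} {pt : ℕ → Ω}
    (M : Md g pt H15.QS.YHS.P 100 7 H15.QS.YHS.B 88704000) : (wds g z1x_W) 2 ^ 3 = 1 :=
  M.pw (z1x_act M) z1p1_k
theorem z1h {G Ω : Type*} [Group G] [MulAction G Ω] {g : ℕ → G} {pt : ℕ → Ω}
    (M : Md g pt H15.QS.YHS.P 100 7 H15.QS.YHS.B 88704000) : Th (wds g z1x_W) 2 (gen g 6) :=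
  ⟨(gen_wds_le (by decide +kernel) _), z1z M, z1s M, z1n M, fun k hk => match k, hk with | 0, _ => z1p0 M | 1, _ => z1p1 M⟩
theorem z1a_act {G Ω : Type*} [Group G] [MulAction G Ω] {g : ℕ → G} {pt : ℕ → Ω}
    (M : Md g pt H15.QS.YHS.P 100 7 H15.QS.YHS.B 88704000) : Act (wds g z1a_W) pt z1a_P 100 1 :=
  M.wact z1a_lt
theorem z1b_k : ∀ i < 3, (cmEnt z1x_P z1a_P (nat_lit 3) H15.QS.YHS.B (nat_lit 0)) i = 0 := allZ_sound0 z1b_k_0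
theorem z1b {G Ω : Type*} [Group G] [MulAction G Ω] {g : ℕ → G} {pt : ℕ → Ω}
    (M : Md g pt H15.QS.YHS.P 100 7 H15.QS.YHS.B 88704000) : (wds g z1a_W) 0 ∈ Subgroup.centralizer ((gen (wds g z1x_W) 3) : Set G) :=
  cms M (z1x_act M) (z1a_act M) (by decide) z1b_k
theorem z1 {G Ω : Type*} [Group G] [MulAction G Ω] {g : ℕ → G} {pt : ℕ → Ω}
    (M : Md g pt H15.QS.YHS.P 100 7 H15.QS.YHS.B 88704000) (i : (gen g 6).index = 2) : Z2 ((wds g H15.QS.YHS.covr_W) 1) (gen g 6) :=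
  have := M.fin
  (z1h M).z2a (ix3 i ((congrArg (fun H : Subgroup G => Nat.card H) (z1c_eq M).1).trans (z1c_eq M).2) (z1b M) (nmD M i (by decide +kernel)))
theorem all {G Ω : Type*} [Group G] [MulAction G Ω] {g : ℕ → G} {pt : ℕ → Ω}
    (M : Md g pt H15.QS.YHS.P 100 7 H15.QS.YHS.B 88704000) (i : (gen g 6).index = 2) : Am (gen g 6) → KA (gen g 6) ∧ H5.QJ.OC (gen g 6) :=
  have := M.fin
  have := Subgroup.normal_of_index_eq_two i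
  ka_of i.dvd (cs M) (wds g H15.QS.YHS.covr_W) 4 (fun _ hy => H15.QS.YHS.cov M (e := 1) hy hy) fun k hk => match k, hk with
    | 0, _ => .inr (.inl (tc_card (e := 10) (H15.QS.YHS.c0ac_card M) M.card (by norm_num)))
    | 1, _ => .inr (.inr ⟨e9' M, z1 M i⟩)
    | 2, _ => .inl (nmD M i (by decide +kernel))
    | 3, _ => .inl (nmD M i (by decide +kernel))

theorem ko : KO Cfsg.Spor.HS := by
  obtain ⟨_, g, M, -⟩ := H15.QS.YHS.md H15.hsGen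
  obtain ⟨Y, _, _, γ, M', i, φ, -⟩ := H15.QS.YHS.ymd M
  have := M.fin
  have := M'.fin
  exact ko_two φ i Cfsg.Agent.S2072.result ⟨H15.QS.YHS.cbot0 M', all M' i⟩

end H15.QJ.YHS
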